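import Cfsg.Agent.Lib.Char.SmallRamified.Aut
import Mathlib.Data.Nat.Factorization.Induction

/-!
# Orders of simple groups against the orders of small linear groups
-/

set_option autoImplicit false

namespace CfsgLib.Char.SmallRamified

/-- `N` does not divide a power of `r` times `autPart r`. -/
def NotSmall (N r : ℕ) : Prop := ∀ m : ℕ, ¬ N ∣ r ^ m * autPart r

theorem notSmall_of {N r d : ℕ} (hd : d ∣ N) (hcop : d.Coprime r) (hnd : ¬ d ∣ autPart r) : NotSmall N r :=
  fun m h => hnd ((hcop.pow_right m).dvd_of_dvd_mul_left (hd.trans h))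

theorem autPart_three : autPart 3 = 416 := rfl

theorem notSmall_three_of_prime {N p : ℕ} (hp : p.Prime) (hd : p ∣ N) (h3 : p ≠ 3) (h2 : p ≠ 2) (h13 : p ≠ 13) :
    NotSmall N 3 := by
  refine notSmall_of hd ((Nat.coprime_primes hp Nat.prime_three).2 h3) ?_
  rw [autPart_three, show (416 : ℕ) = 2 ^ 5 * 13 from rfl, hp.dvd_mul]
  rintro (h | h)
  · exact h2 ((Nat.prime_dvd_prime_iff_eq hp Nat.prime_two).1 (hp.dvd_of_dvd_pow h))
  · exact h13 ((Nat.prime_dvd_prime_iff_eq hp (by norm_num)).1 h)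

/-- The orders `q (q - 1) (q + 1) / g` for `q` prime to three. -/
theorem linear_three {N g p f : ℕ} (hp : p.Prime) (hp3 : p ≠ 3) (hf : 4 ≤ p ^ f) (hg : g ∣ 2)
    (hodd : p = 2 → g = 1) (hN : g * N = p ^ f * ((p ^ f - 1) * (p ^ f + 1))) : 3 ∣ N ∧ NotSmall N 3 := by
  have hin : ∀ d : ℕ, d.Coprime 2 → d ∣ p ^ f * ((p ^ f - 1) * (p ^ f + 1)) → d ∣ N := fun d hd h =>
    (hd.coprime_dvd_right hg).dvd_of_dvd_mul_left (hN ▸ h)
  have hq3 : ¬ 3 ∣ p ^ f := fun h =>
    hp3 ((Nat.prime_dvd_prime_iff_eq Nat.prime_three hp).1 (Nat.prime_three.dvd_of_dvd_pow h)).symm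
  have h3 : 3 ∣ (p ^ f - 1) * (p ^ f + 1) := by
    rcases (show p ^ f % 3 = 1 ∨ p ^ f % 3 = 2 by omega) with h | h
    · exact dvd_mul_of_dvd_left (by omega) _
    · exact dvd_mul_of_dvd_right (by omega) _
  refine ⟨hin 3 (by norm_num) (dvd_mul_of_dvd_right h3 _), ?_⟩
  have hf0 : f ≠ 0 := by rintro rfl; norm_num at hf
  by_cases h2 : p = 2
  · subst h2
    rw [hodd rfl, one_mul] at hN
    by_cases h6 : 6 ≤ f
    · refine notSmall_of (d := 2 ^ f) (hN ▸ dvd_mul_right _ _) (Nat.Coprime.pow_left _ (by norm_num)) fun h => ?_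
      rw [autPart_three] at h
      have h64 : 2 ^ 6 ∣ 416 := (pow_dvd_pow 2 h6).trans h
      norm_num at h64
    · have h2f : 2 ≤ f := by
        by_contra h
        interval_cases f <;> norm_num at hf
      interval_cases f
      · exact notSmall_three_of_prime (p := 5) (by norm_num) (hN ▸ by norm_num) (by norm_num) (by norm_num) (by norm_num)
      · exact notSmall_three_of_prime (p := 7) (by norm_num) (hN ▸ by norm_num) (by norm_num) (by norm_num) (by norm_num)
      · exact notSmall_three_of_prime (p := 5) (by norm_num) (hN ▸ by norm_num) (by norm_num) (by norm_num) (by norm_num)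
      · exact notSmall_three_of_prime (p := 11) (by norm_num) (hN ▸ by norm_num) (by norm_num) (by norm_num) (by norm_num)
  by_cases h13 : p = 13
  · subst h13
    refine notSmall_three_of_prime (p := 7) (by norm_num) (hin 7 (by norm_num) (dvd_mul_of_dvd_right ?_ _))
      (by norm_num) (by norm_num) (by norm_num)
    have h : 13 ^ f % 7 = 1 ∨ 13 ^ f % 7 = 6 := by
      rw [Nat.pow_mod]
      rcases Nat.even_or_odd f with ⟨k, rfl⟩ | ⟨k, rfl⟩
      · left; rw [← two_mul, pow_mul, Nat.pow_mod]; norm_num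
      · right; rw [pow_succ, pow_mul, Nat.mul_mod, Nat.pow_mod]; norm_num
    rcases h with h | h
    · exact dvd_mul_of_dvd_left (by omega) _
    · exact dvd_mul_of_dvd_right (by omega) _
  exact notSmall_three_of_prime hp (hin p ((Nat.coprime_primes hp Nat.prime_two).2 h2)
    (dvd_mul_of_dvd_left (dvd_pow_self p hf0) _)) hp3 h2 h13

/-- A power of three dividing `autPart r`, for `r` congruent to two. -/
theorem three_pow_dvd_succ {r a : ℕ} (hr : r % 3 = 2) (h : 3 ^ a ∣ autPart r) : 3 ^ a ∣ r + 1 := by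
  obtain ⟨s, rfl⟩ : ∃ s, r = 3 * s + 2 := ⟨r / 3, by omega⟩
  have e : autPart (3 * s + 2) = (3 * s + 2 + 1) * ((3 * s + 1) * (3 * s + 1) * ((3 * s + 2) ^ 3 - 1)) := by
    unfold autPart
    rw [show (3 * s + 2) ^ 2 - 1 = (3 * s + 2 + 1) * (3 * s + 1) by rw [show (1 : ℕ) = 1 ^ 2 from rfl, Nat.sq_sub_sq]; rfl,
      show 3 * s + 2 - 1 = 3 * s + 1 by omega]
    ring
  rw [e] at h
  refine Nat.Coprime.dvd_of_dvd_mul_right (Nat.Coprime.pow_left a ?_) h
  refine Nat.Coprime.mul_right (Nat.Coprime.mul_right ?_ ?_) ?_ <;>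
    refine Nat.prime_three.coprime_iff_not_dvd.2 fun hd => ?_
  · omega
  · omega
  · have h1 : (3 * s + 2) ^ 3 % 3 = 2 := by rw [Nat.pow_mod]; simp [Nat.add_mod]
    omega

/-- A power of three dividing `autPart r`, for `r` congruent to one. -/
theorem three_pow_dvd_pred {r a c : ℕ} (hr : r % 3 = 1) (h : 3 ^ a ∣ autPart r) (hc : 3 * (c - 1) + 1 < a) :
    3 ^ c ∣ r - 1 := by
  obtain ⟨u, rfl⟩ : ∃ u, r = 3 * u + 1 := ⟨r / 3, by omega⟩
  rcases Nat.eq_zero_or_pos c with rfl | hc0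
  · simp
  rcases Nat.eq_zero_or_pos u with rfl | hu0
  · simp
  have e : autPart (3 * u + 1) = (3 * u) ^ 3 * 3 * ((3 * u + 2) * (3 * u * u + 3 * u + 1)) := by
    unfold autPart
    obtain ⟨A, hA⟩ : ∃ A, (3 * u + 1) ^ 2 = A + 1 := ⟨(3 * u + 1) ^ 2 - 1, by
      have : 1 ≤ (3 * u + 1) ^ 2 := Nat.one_le_pow _ _ (by omega); omega⟩
    obtain ⟨B, hB⟩ : ∃ B, (3 * u + 1) ^ 3 = B + 1 := ⟨(3 * u + 1) ^ 3 - 1, by
      have : 1 ≤ (3 * u + 1) ^ 3 := Nat.one_le_pow _ _ (by omega); omega⟩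
    rw [hA, hB, show A + 1 - 1 = A by omega, show B + 1 - 1 = B by omega, show 3 * u + 1 - 1 = 3 * u by omega]
    have hA' : A = 3 * u * (3 * u + 2) := by nlinarith [hA]
    have hB' : B = 3 * u * (3 * (3 * u * u + 3 * u + 1)) := by nlinarith [hB]
    rw [hA', hB']
    ring
  rw [e] at h
  have hcop : Nat.Coprime 3 ((3 * u + 2) * (3 * u * u + 3 * u + 1)) :=
    Nat.Coprime.mul_right (Nat.prime_three.coprime_iff_not_dvd.2 fun hd => by omega)
      (Nat.prime_three.coprime_iff_not_dvd.2 fun hd => by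
        rw [show 3 * u * u + 3 * u + 1 = 3 * (u * u + u) + 1 by ring] at hd; omega)
  have h1 := (hcop.pow_left a).dvd_of_dvd_mul_right h
  rw [Nat.add_sub_cancel, Nat.prime_three.pow_dvd_iff_le_factorization (by omega)]
  rw [Nat.prime_three.pow_dvd_iff_le_factorization (by positivity), Nat.factorization_mul (by positivity) (by norm_num),
    Finsupp.add_apply, Nat.factorization_pow, Finsupp.smul_apply, smul_eq_mul, Nat.prime_three.factorization_self] at h1
  omega

theorem two_pow_dvd : ∀ (f k : ℕ), 0 < f → 2 ^ k ∣ 9 ^ f - 1 → 2 ^ k ∣ 8 * f := by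
  intro f
  induction f using Nat.strong_induction_on with
  | _ f ih =>
    intro k hf hk
    rcases Nat.even_or_odd f with ⟨g, rfl⟩ | ⟨g, rfl⟩
    · have hk2 : 2 ^ k ∣ 2 * (9 ^ g - 1) := by
        have he : 9 ^ (g + g) - 1 = 2 * (9 ^ g - 1) * ((9 ^ g + 1) / 2) := by
          have h9 : 9 ^ g % 2 = 1 := by rw [Nat.pow_mod]; norm_num
          have h1 : (9 ^ g) ^ 2 - 1 ^ 2 = (9 ^ g + 1) * (9 ^ g - 1) := Nat.sq_sub_sq _ _
          rw [one_pow, ← pow_mul, mul_two] at h1
          rw [h1, mul_comm 2, mul_assoc, Nat.mul_div_cancel' (by omega), mul_comm]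
        rw [he] at hk
        refine Nat.Coprime.dvd_of_dvd_mul_right (Nat.Coprime.pow_left k (Nat.prime_two.coprime_iff_not_dvd.2 ?_)) hk
        have h4 : 9 ^ g % 4 = 1 := by rw [Nat.pow_mod]; norm_num
        omega
      rcases k with _ | k
      · simp
      rw [pow_succ'] at hk2
      have h2 := ih g (by omega) k (by omega) (Nat.dvd_of_mul_dvd_mul_left (by norm_num) hk2)
      rw [pow_succ', show 8 * (g + g) = 2 * (8 * g) by ring]
      exact mul_dvd_mul_left 2 h2
    · have h16 : 9 ^ (2 * g + 1) % 16 = 9 := by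
        rw [pow_succ, pow_mul, Nat.mul_mod, Nat.pow_mod]; norm_num
      by_contra hno
      have hk4 : 4 ≤ k := by
        by_contra h
        exact hno ((pow_dvd_pow 2 (show k ≤ 3 by omega)).trans (Dvd.intro _ rfl))
      have h16' : 16 ∣ 9 ^ (2 * g + 1) - 1 := (show 16 ∣ 2 ^ k from (pow_dvd_pow 2 hk4)).trans hk
      have h9pos : 1 ≤ 9 ^ (2 * g + 1) := Nat.one_le_pow _ _ (by norm_num)
      omega

theorem pow_three_large : ∀ f, 20 ≤ f → 8 * f + 1 < 3 ^ ((f + 1) / 3) := by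
  intro f
  induction f using Nat.strong_induction_on with
  | _ f ih =>
    intro hf
    by_cases h : f < 23
    · interval_cases f <;> norm_num
    · have h1 := ih (f - 3) (by omega) (by omega)
      rw [show (f + 1) / 3 = (f - 3 + 1) / 3 + 1 by omega, pow_succ]
      omega

/-- A prime for the orders of `PSL(2, 3 ^ f)`. -/
theorem exists_linear_nine {f N : ℕ} (hf : 2 ≤ f) (hN : 2 * N = 3 ^ f * ((3 ^ f - 1) * (3 ^ f + 1))) :
    ∃ r : ℕ, r.Prime ∧ r ≠ 2 ∧ r ≠ 3 ∧ r ∣ N ∧ NotSmall N r := by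
  set q := 3 ^ f with hq
  have hq9 : 9 ≤ q := le_trans (by norm_num) (Nat.pow_le_pow_right (show 0 < 3 by norm_num) hf)
  have hsq : (q - 1) * (q + 1) = 9 ^ f - 1 := by
    rw [show (9 : ℕ) = 3 ^ 2 from rfl, ← pow_mul, mul_comm 2 f, pow_mul, ← hq, show (1 : ℕ) = 1 ^ 2 from rfl, Nat.sq_sub_sq,
      mul_comm]
    rfl
  have hM0 : 9 ^ f - 1 ≠ 0 := by rw [← hsq]; exact Nat.mul_ne_zero (by omega) (by omega)
  have hin : ∀ d : ℕ, d.Coprime 2 → d ∣ q * (9 ^ f - 1) → d ∣ N := fun d hd h =>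
    hd.dvd_of_dvd_mul_left (by rw [hN, hsq]; exact h)
  have hqN : q ∣ N := hin q (Nat.Coprime.pow_left f (by norm_num)) (dvd_mul_right _ _)
  by_cases hex : ∃ r : ℕ, r.Prime ∧ r ≠ 2 ∧ r ∣ 9 ^ f - 1 ∧ ¬ q ∣ autPart r
  · obtain ⟨r, hr, h2, hd, hnd⟩ := hex
    have h3 : r ≠ 3 := by
      rintro rfl
      have : 3 ∣ 9 ^ f := dvd_pow (by norm_num) (by omega)
      omega
    exact ⟨r, hr, h2, h3, hin r ((Nat.coprime_primes hr Nat.prime_two).2 h2) (dvd_mul_of_dvd_right hd _),
      notSmall_of hqN (Nat.Coprime.pow_left f ((Nat.coprime_primes Nat.prime_three hr).2 (Ne.symm h3))) hnd⟩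
  push Not at hex
  by_cases h3 : f = 3
  · subst h3
    refine ⟨7, by norm_num, by norm_num, by norm_num, hin 7 (by norm_num) (by norm_num [hq]), ?_⟩
    exact notSmall_of (d := 13) (hin 13 (by norm_num) (by norm_num [hq])) (by norm_num) (by decide)
  exfalso
  by_cases hsmall : f < 8
  · interval_cases f
    · exact absurd (hex 5 (by norm_num) (by norm_num) (by norm_num)) (by rw [hq]; decide)
    · exact h3 rfl
    · exact absurd (hex 5 (by norm_num) (by norm_num) (by norm_num)) (by rw [hq]; decide)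
    · exact absurd (hex 11 (by norm_num) (by norm_num) (by norm_num)) (by rw [hq]; decide)
    · exact absurd (hex 5 (by norm_num) (by norm_num) (by norm_num)) (by rw [hq]; decide)
    · exact absurd (hex 547 (by norm_num) (by norm_num) (by norm_num)) (by rw [hq]; decide +kernel)
  set c := (f + 1) / 3 with hc
  have hmod : ∀ r : ℕ, r.Prime → r ≠ 2 → r ∣ 9 ^ f - 1 → r % 3 ^ c = 1 := by
    intro r hr h2 hd
    have hr3 : r % 3 ≠ 0 := fun h => by
      have := (Nat.prime_dvd_prime_iff_eq Nat.prime_three hr).1 (Nat.dvd_of_mod_eq_zero h)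
      subst this
      have : 3 ∣ 9 ^ f := dvd_pow (by norm_num) (by omega)
      omega
    have hdvd := hex r hr h2 hd
    rcases (show r % 3 = 1 ∨ r % 3 = 2 by omega) with h | h
    · have h1 := three_pow_dvd_pred (c := c) h (hq ▸ hdvd) (by omega)
      have h3c : 1 < 3 ^ c := Nat.one_lt_pow (by omega) (by norm_num)
      obtain ⟨t, ht⟩ := h1
      rw [show r = 3 ^ c * t + 1 by have := hr.two_le; omega, Nat.mul_add_mod, Nat.mod_eq_of_lt h3c]
    · exfalso
      have h1 := Nat.le_of_dvd (by omega) (three_pow_dvd_succ h (hq ▸ hdvd))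
      rw [← hq] at h1
      rw [← hsq] at hd
      rcases hr.dvd_mul.1 hd with h' | h'
      · obtain ⟨t, ht⟩ := h'
        have h'' := hr.two_le
        have : 2 ≤ t := by
          by_contra hcon
          interval_cases t
          · omega
          · exact h2 ((Nat.Prime.eq_two_or_odd hr).resolve_right fun ho => by
              have : q % 2 = 1 := by rw [hq, Nat.pow_mod]; norm_num
              omega)
        have h4 : r * 2 ≤ q - 1 := ht ▸ Nat.mul_le_mul_left r this
        omega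
      · obtain ⟨t, ht⟩ := h'
        have h'' := hr.two_le
        have : 2 ≤ t := by
          by_contra hcon
          interval_cases t
          · omega
          · exact h2 ((Nat.Prime.eq_two_or_odd hr).resolve_right fun ho => by
              have : q % 2 = 1 := by rw [hq, Nat.pow_mod]; norm_num
              omega)
        have h4 : r * 2 ≤ q + 1 := ht ▸ Nat.mul_le_mul_left r this
        omega
  have hall : ∀ M : ℕ, M ∣ 9 ^ f - 1 → ¬ 2 ∣ M → M % 3 ^ c = 1 := by
    intro M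
    induction M using Nat.recOnMul with
    | zero => intro h; exact absurd (zero_dvd_iff.1 h) hM0
    | one => intro _ _; exact Nat.mod_eq_of_lt (Nat.one_lt_pow (by omega) (by norm_num))
    | prime p hp => intro h h2; exact hmod p hp (fun e => h2 (by rw [e])) h
    | mul a b ha hb =>
      intro h h2
      rw [Nat.mul_mod, ha (dvd_trans (dvd_mul_right a b) h) (fun e => h2 (e.mul_right b)),
        hb (dvd_trans (dvd_mul_left b a) h) (fun e => h2 (e.mul_left a)), one_mul,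
        Nat.mod_eq_of_lt (Nat.one_lt_pow (by omega) (by norm_num))]
  obtain ⟨k, M, hM2, hkM⟩ := Nat.exists_eq_pow_mul_and_not_dvd hM0 2 (by norm_num)
  have h1 := hall M (hkM ▸ dvd_mul_left _ _) hM2
  have hk8 := two_pow_dvd f k (by omega) (hkM ▸ dvd_mul_right _ _)
  have hk8' := Nat.le_of_dvd (by omega) hk8
  have h2 : 3 ^ c ∣ 2 ^ k + 1 := by
    have h9 : 3 ^ c ∣ 9 ^ f := by
      rw [show (9 : ℕ) = 3 ^ 2 from rfl, ← pow_mul]
      exact pow_dvd_pow 3 (by omega)
    rw [show 9 ^ f = 2 ^ k * M + 1 by omega, Nat.dvd_iff_mod_eq_zero, Nat.add_mod, Nat.mul_mod, h1, mul_one,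
      Nat.mod_mod, ← Nat.add_mod] at h9
    exact Nat.dvd_of_mod_eq_zero h9
  by_cases h20 : 20 ≤ f
  · have := Nat.le_of_dvd (by positivity) h2
    have := pow_three_large f h20
    rw [← hc] at this
    omega
  · have hk : k < 8 := by
      by_contra hge
      have := Nat.pow_le_pow_right (show 0 < 2 by norm_num) (show 8 ≤ k by omega)
      omega
    have h27 : 3 ^ 3 ∣ 2 ^ k + 1 := (pow_dvd_pow 3 (by omega)).trans h2
    have : ∀ j < 8, ¬ 3 ^ 3 ∣ 2 ^ j + 1 := by decide
    exact this k hk h27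

/-- A prime for the orders of the small Ree groups. -/
theorem exists_ree {m N : ℕ} (hm : 1 ≤ m)
    (hN : N = (3 ^ (2 * m + 1)) ^ 3 * ((3 ^ (2 * m + 1)) ^ 3 + 1) * (3 ^ (2 * m + 1) - 1)) :
    ∃ r : ℕ, r.Prime ∧ r ≠ 2 ∧ r ≠ 3 ∧ r ∣ 3 ^ (2 * m + 1) - 1 ∧
      ¬ r ∣ (3 ^ (2 * m + 1)) ^ 3 + 1 ∧ ¬ r ∣ 3 ^ (2 * m + 1) + 1 ∧ NotSmall N r := by
  set f := 2 * m + 1 with hf
  set q := 3 ^ f with hq
  have hq27 : 27 ≤ q := le_trans (by norm_num) (Nat.pow_le_pow_right (show 0 < 3 by norm_num) (show 3 ≤ f by omega))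
  have hq4 : q % 4 = 3 := by rw [hq, hf, pow_succ, pow_mul, Nat.mul_mod, Nat.pow_mod]; norm_num
  obtain ⟨r, hr, hrd⟩ := Nat.exists_prime_and_dvd (show (q - 1) / 2 ≠ 1 by omega)
  have hr2 : r ≠ 2 := by
    rintro rfl
    omega
  have hdq : r ∣ q - 1 := hrd.trans ⟨2, by omega⟩
  have hr3 : r ≠ 3 := by
    rintro rfl
    have : 3 ∣ q := dvd_pow_self 3 (by omega)
    omega
  have hle : r ≤ (q - 1) / 2 := Nat.le_of_dvd (by omega) hrd
  have hmod : q % r = 1 := by
    obtain ⟨t, ht⟩ := hdq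
    rw [show q = r * t + 1 by omega, Nat.mul_add_mod, Nat.mod_eq_of_lt hr.one_lt]
  have h2mod : (1 + 1) % r ≠ 0 := by
    intro h
    exact hr2 ((Nat.prime_dvd_prime_iff_eq hr Nat.prime_two).1 (Nat.dvd_of_mod_eq_zero h))
  refine ⟨r, hr, hr2, hr3, hdq, fun h => h2mod ?_, fun h => h2mod ?_, ?_⟩
  · rw [← Nat.mod_eq_zero_of_dvd h] at *
    conv_rhs => rw [Nat.add_mod, Nat.pow_mod, hmod, one_pow, Nat.mod_eq_of_lt hr.one_lt]
  · rw [← Nat.mod_eq_zero_of_dvd h] at *
    conv_rhs => rw [Nat.add_mod, hmod, Nat.mod_eq_of_lt hr.one_lt]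
  refine notSmall_of (d := q ^ 3) (hN ▸ (dvd_mul_right _ _).mul_right _)
    (Nat.Coprime.pow_left 3 (Nat.Coprime.pow_left f ((Nat.coprime_primes Nat.prime_three hr).2 (Ne.symm hr3)))) ?_
  intro h
  rw [hq, ← pow_mul] at h
  have hr0 : r % 3 ≠ 0 := fun h0 =>
    hr3 ((Nat.prime_dvd_prime_iff_eq Nat.prime_three hr).1 (Nat.dvd_of_mod_eq_zero h0)).symm
  rcases (show r % 3 = 1 ∨ r % 3 = 2 by omega) with h' | h'
  · have := Nat.le_of_dvd (by have := hr.two_le; omega) (three_pow_dvd_pred (c := f) h' h (by omega))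
    rw [← hq] at this
    omega
  · have h1 := Nat.le_of_dvd (by omega) ((pow_dvd_pow 3 (show f ≤ f * 3 by omega)).trans (three_pow_dvd_succ h' h))
    rw [← hq] at h1
    omega

end CfsgLib.Char.SmallRamified
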