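import Cfsg.Agent.Lib.Coprime.Action
import Cfsg.Agent.Lib.Coprime.PGroupFrattini
import Cfsg.Agent.Lib.Char.TransLinear.AutCard

/-!
# Automorphisms induced on a group of order at most `r ^ 3`
-/

set_option autoImplicit false
set_option linter.style.haveILetI false
set_option linter.unusedSectionVars false

namespace CfsgLib.Char.SmallRamified

open Subgroup
open scoped commutatorElement

universe u

/-- The part prime to `r` of the order of `GL(3, r)`. -/
def autPart (r : ℕ) : ℕ := (r - 1) * (r ^ 2 - 1) * (r ^ 3 - 1)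

theorem glCard_dvd (r k : ℕ) (hk : k ≤ 3) : glCard k r ∣ r ^ 3 * autPart r := by
  unfold autPart
  interval_cases k
  · simp [glCard]
  · simp only [glCard, Finset.prod_range_succ, Finset.prod_range_zero, pow_zero, pow_one, one_mul]
    exact ((dvd_mul_right _ _).mul_right _).mul_left _
  · simp only [glCard, Finset.prod_range_succ, Finset.prod_range_zero, pow_zero, pow_one, one_mul]
    rw [show r ^ 2 - r = r * (r - 1) by rw [Nat.mul_sub, mul_one, sq]]
    exact ⟨r ^ 2 * (r ^ 3 - 1), by ring⟩
  · simp only [glCard, Finset.prod_range_succ, Finset.prod_range_zero, pow_zero, pow_one, one_mul]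
    rw [show r ^ 3 - r = r * (r ^ 2 - 1) by rw [Nat.mul_sub, mul_one]; ring_nf,
      show r ^ 3 - r ^ 2 = r ^ 2 * (r - 1) by rw [Nat.mul_sub, mul_one]; ring_nf]
    exact ⟨1, by ring⟩

variable {Q : Type u} [Group Q] [Finite Q] {r : ℕ} [hr : Fact r.Prime]

/-- The group induced on an `r`-group of order dividing `r ^ 3`. -/
theorem relIndex_centralizer_dvd {R N : Subgroup Q} (hN : N ≤ normalizer (R : Set Q)) (hR : IsPGroup r R)
    (hc : Nat.card R ∣ r ^ 3) :
    ∃ m : ℕ, (centralizer (R : Set Q)).relIndex N ∣ r ^ m * autPart r := by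
  classical
  let φ : N →* MulAut R := (Subgroup.normalizerMonoidHom R).comp (Subgroup.inclusion hN)
  have hφ : φ.ker = (centralizer (R : Set Q)).subgroupOf N := by
    rw [← MonoidHom.comap_ker, Subgroup.normalizerMonoidHom_ker]
    ext x
    simp [mem_subgroupOf]
  have happ : ∀ (n : N) (k : R), ((φ n k : R) : Q) = n * k * (n : Q)⁻¹ := fun n k => rfl
  let Φ := frattini R
  let quot : MulAut R →* MulAut (R ⧸ Φ) :=
    { toFun := fun α => QuotientGroup.congr Φ Φ α (Subgroup.characteristic_iff_map_eq.1 inferInstance α)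
      map_one' := by
        ext x
        induction x using QuotientGroup.induction_on with
        | _ a => rfl
      map_mul' := fun α β => by
        ext x
        induction x using QuotientGroup.induction_on with
        | _ a => rfl }
  set N₁ := (quot.comp φ).ker with hN₁
  have hcop : ∀ y ∈ N₁, (orderOf (y : Q)).Coprime r → φ y = 1 := by
    intro y hy hyr
    have h := CfsgLib.Coprime.le_centralizer_of_trivial_on_frattini_quotient (A := zpowers (y : Q)) (K := R)
      (zpowers_le.2 (hN y.2)) (by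
        obtain ⟨j, hj⟩ := (hR.to_subgroup (frattini R)).exists_card_eq
        rw [Nat.card_zpowers, hj]
        exact hyr.pow_right j) ?_
    · rw [← MonoidHom.mem_ker, hφ, mem_subgroupOf]
      exact h (mem_zpowers _)
    · intro a ha k hk
      obtain ⟨i, rfl⟩ := mem_zpowers_iff.1 ha
      have h1 : (y ^ i : N) ∈ N₁ := N₁.zpow_mem hy i
      have h2 : ((φ (y ^ i) ⟨k, hk⟩ : R) : R ⧸ Φ) = ((⟨k, hk⟩ : R) : R ⧸ Φ) :=
        DFunLike.congr_fun (MonoidHom.mem_ker.1 h1) ((⟨k, hk⟩ : R) : R ⧸ Φ)
      have h3 := QuotientGroup.eq.1 h2.symm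
      refine ⟨_, (inferInstance : Φ.Normal).conj_mem _ h3 ⟨k, hk⟩, ?_⟩
      simp only [map_mul, map_inv, coe_subtype, happ, SubgroupClass.coe_zpow]
      group
  have hp : IsPGroup r (N₁.map φ) := by
    rintro ⟨_, y, hy, rfl⟩
    obtain ⟨k, d, hd, hdd⟩ := Nat.exists_eq_pow_mul_and_not_dvd (orderOf_pos (y : Q)).ne' r hr.out.ne_one
    refine ⟨k, Subtype.ext ?_⟩
    show φ y ^ r ^ k = 1
    rw [← map_pow]
    refine hcop _ (N₁.pow_mem hy _) ?_
    have : orderOf ((y ^ r ^ k : N) : Q) ∣ d := orderOf_dvd_of_pow_eq_one (by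
      rw [SubgroupClass.coe_pow, ← pow_mul, ← hdd, pow_orderOf_eq_one])
    exact (hr.out.coprime_iff_not_dvd.2 hd).symm.coprime_dvd_left this
  obtain ⟨m, hm⟩ := hp.exists_card_eq
  haveI : Finite (R ⧸ Φ) := Quotient.finite _
  haveI : Finite (MulAut (R ⧸ Φ)) := Finite.of_injective (fun e : MulAut (R ⧸ Φ) => (e : R ⧸ Φ → R ⧸ Φ))
    DFunLike.coe_injective
  have hidx : N₁.index ∣ r ^ 3 * autPart r := by
    rw [hN₁, Subgroup.index_ker]
    refine (Subgroup.card_subgroup_dvd_card _).trans ?_
    obtain ⟨k, hk⟩ := (hR.to_quotient Φ).exists_card_eq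
    letI : CommGroup (R ⧸ Φ) :=
      { (inferInstance : Group (R ⧸ Φ)) with
        mul_comm := fun a b => by
          induction a using QuotientGroup.induction_on with
          | _ a =>
            induction b using QuotientGroup.induction_on with
            | _ b =>
              show (QuotientGroup.mk (a * b) : R ⧸ Φ) = QuotientGroup.mk (b * a)
              refine QuotientGroup.eq.2 ?_
              rw [show (a * b)⁻¹ * (b * a) = ⁅b⁻¹, a⁻¹⁆ by simp [commutatorElement_def, mul_assoc]]
              exact CfsgLib.Coprime.commutator_le_frattini hR (commutator_mem_commutator (mem_top _) (mem_top _)) }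
    have hexpQ : ∀ x : R ⧸ Φ, x ^ r = 1 := fun x => by
      induction x using QuotientGroup.induction_on with
      | _ a => rw [← QuotientGroup.mk_pow, QuotientGroup.eq_one_iff]; exact CfsgLib.Coprime.pow_mem_frattini hR a
    rw [card_mulAut_of_exponent_prime hexpQ hk]
    refine glCard_dvd r k ((Nat.pow_dvd_pow_iff_le_right hr.out.one_lt).1 ?_)
    rw [← hk]
    exact (Subgroup.card_quotient_dvd_card Φ).trans hc
  refine ⟨m + 3, ?_⟩
  have hkl : φ.ker ≤ N₁ := fun y hy => by
    rw [hN₁, MonoidHom.mem_ker, MonoidHom.comp_apply, MonoidHom.mem_ker.1 hy, map_one]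
  rw [relIndex, ← hφ, ← Subgroup.relIndex_mul_index hkl, Subgroup.relIndex_ker, pow_add, mul_assoc]
  refine mul_dvd_mul ?_ hidx
  rw [hm]

end CfsgLib.Char.SmallRamified
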