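import Cfsg.Agent.Lib.Coprime.Action

/-!
# Sylow subgroups of subgroups
-/

set_option autoImplicit false
set_option linter.style.haveILetI false

namespace CfsgLib.Char.SmallRamified

open Subgroup
open CfsgLib.Coprime (IsSylowIn)

variable {G : Type*} [Group G] [Finite G] {r : ℕ} [hr : Fact r.Prime]

theorem exists_sylowIn_ge {T H : Subgroup G} (hT : IsPGroup r T) (hTH : T ≤ H) :
    ∃ P : Subgroup G, IsSylowIn r P H ∧ T ≤ P := by
  obtain ⟨S, hS⟩ := (hT.of_equiv (subgroupOfEquivOfLe hTH).symm).exists_le_sylow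
  exact ⟨_, CfsgLib.Coprime.isSylowIn_map S, fun x hx => ⟨⟨x, hTH hx⟩, hS (mem_subgroupOf.2 hx), rfl⟩⟩

theorem sylowIn_of_card_le {P H : Subgroup G} (hP : IsPGroup r P) (hPH : P ≤ H) {S : Subgroup G}
    (hS : IsSylowIn r S H) (hc : Nat.card S ≤ Nat.card P) : IsSylowIn r P H := by
  obtain ⟨P', hP', hle⟩ := exists_sylowIn_ge hP hPH
  have : P = P' := eq_of_le_of_card_ge hle (by rw [hP'.2, ← hS.2]; exact hc)
  rwa [this]

theorem sylowIn_eq_of_le {P T H : Subgroup G} (hP : IsSylowIn r P H) (hT : IsPGroup r T) (hPT : P ≤ T)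
    (hTH : T ≤ H) : T = P := by
  obtain ⟨S, hS, hle⟩ := exists_sylowIn_ge hT hTH
  refine (eq_of_le_of_card_ge hPT ?_).symm
  rw [hP.2, ← hS.2]
  exact card_le_of_le hle

/-- A Sylow subgroup meets a normal subgroup in a Sylow subgroup. -/
theorem sylowIn_inf {P M N : Subgroup G} (hP : IsSylowIn r P M) (hNM : N ≤ M)
    (hn : M ≤ normalizer (N : Set G)) : IsSylowIn r (P ⊓ N) N := by
  obtain ⟨S, hS, -⟩ := exists_sylowIn_ge (IsPGroup.of_bot (G := G) (p := r)) (bot_le : (⊥ : Subgroup G) ≤ N)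
  obtain ⟨S', hS', hle⟩ := exists_sylowIn_ge hS.isPGroup (hS.1.trans hNM)
  obtain ⟨m, hm, he⟩ := hS'.exists_conj hP
  refine sylowIn_of_card_le (hP.isPGroup.to_le inf_le_left) inf_le_right hS ?_
  rw [← CfsgLib.Coprime.card_conjBy m S]
  refine card_le_of_le (le_inf ?_ ?_)
  · rw [← he]; exact map_mono hle
  · exact (map_mono hS.1).trans (le_of_eq (CfsgLib.Coprime.conjBy_eq_self_iff.2 (hn hm)))

end CfsgLib.Char.SmallRamified
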