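import Cfsg.Agent.Lib.Char.SmallRamified.Aut
import Cfsg.Agent.Lib.Char.SmallRamified.Sylow

/-!
# The order of a factor not covered by a centraliser
-/

set_option autoImplicit false
set_option linter.style.haveILetI false
set_option linter.unusedSectionVars false

namespace CfsgLib.Char.SmallRamified

open Subgroup
open CfsgLib.Coprime (IsSylowIn conjBy)

universe u

variable {Q : Type u} [Group Q] [Finite Q] {r : ℕ} [hr : Fact r.Prime]

/-- A factor not covered by the centraliser of a Sylow subgroup of the kernel is small. -/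
theorem caseB {K L R : Subgroup Q} [K.Normal] (hKL : K ≤ L)
    (hsimple : ∀ M : Subgroup Q, K ≤ M → M ≤ L → L ≤ normalizer (M : Set Q) → M = K ∨ M = L)
    (hrd : r ∣ K.relIndex L) (hR : IsSylowIn r R K)
    (hncov : ¬ L ≤ (L ⊓ centralizer (R : Set Q)) ⊔ K) (hsq : IsSquare (Nat.card Q))
    (hab : r ^ 6 ∣ Nat.card Q → ∀ T : Subgroup Q, IsPGroup r T → ∀ a ∈ T, ∀ b ∈ T, a * b = b * a) :
    ∃ m : ℕ, K.relIndex L ∣ r ^ m * autPart r := by
  classical
  set C := L ⊓ centralizer (R : Set Q) with hC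
  set N := L ⊓ normalizer (R : Set Q) with hN
  have hLN : L = N ⊔ K := by
    refine le_antisymm (fun l hl => ?_) (sup_le inf_le_left hKL)
    obtain ⟨k, hk, hk2⟩ := (hR.conjBy (show l ∈ normalizer (K : Set Q) by
      rw [normalizer_eq_top]; exact mem_top l)).exists_conj hR
    have hkl : k * l ∈ N := ⟨L.mul_mem (hKL hk) hl, by
      show k * l ∈ normalizer (R : Set Q)
      rw [← CfsgLib.Coprime.conjBy_eq_self_iff, ← CfsgLib.Coprime.conjBy_conjBy]
      exact hk2⟩
    rw [sup_comm, show l = k⁻¹ * (k * l) by group]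
    exact mul_mem_sup (K.inv_mem hk) hkl
  have hCn : L ≤ normalizer ((C ⊔ K : Subgroup Q) : Set Q) := by
    rw [hLN]
    refine sup_le (fun m hm => ?_) ((le_sup_right : K ≤ C ⊔ K).trans le_normalizer)
    have h1 : m ∈ normalizer (C : Set Q) :=
      CfsgLib.Coprime.inf_le_normalizer (A := N) (inf_le_left.trans le_normalizer)
        (inf_le_right.trans (CfsgLib.Coprime.normalizer_le_normalizer_centralizer R)) hm
    exact CfsgLib.Coprime.sup_le_normalizer (A := zpowers m) (zpowers_le.2 h1)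
      (by rw [normalizer_eq_top]; exact le_top) (mem_zpowers m)
  rcases hsimple (C ⊔ K) le_sup_right (sup_le inf_le_left hKL) hCn with hCK | hCK
  swap
  · exact absurd hCK.ge hncov
  have hCleK : C ≤ K := hCK ▸ le_sup_left
  have hidx : K.relIndex L = K.relIndex N := by
    conv_lhs => rw [hLN]
    exact relIndex_sup_right _ _
  -- a Sylow subgroup of the normaliser is not abelian
  have hRN : R ≤ N := le_inf (hR.1.trans hKL) le_normalizer
  obtain ⟨T, hT, hRT⟩ := exists_sylowIn_ge hR.isPGroup hRN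
  have hTK : ¬ T ≤ K := by
    intro hle
    have h1 : T ≤ K ⊓ N := le_inf hle hT.1
    have h2 : Nat.card T * K.relIndex N ∣ Nat.card N := by
      refine (mul_dvd_mul_right (card_dvd_of_le h1) _).trans (dvd_of_eq ?_)
      rw [← inf_relIndex_right, ← relIndex_bot_left, relIndex_mul_relIndex _ _ _ bot_le inf_le_right,
        relIndex_bot_left]
    have h3 : Nat.card T * r ∣ Nat.card N := (mul_dvd_mul_left _ (hidx ▸ hrd)).trans h2
    rw [hT.2, ← pow_succ, hr.out.pow_dvd_iff_le_factorization Nat.card_pos.ne'] at h3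
    omega
  obtain ⟨x, hxT, hxK⟩ := SetLike.not_le_iff_exists.1 hTK
  obtain ⟨k, hkR, hxk⟩ : ∃ k ∈ R, x * k ≠ k * x := by
    by_contra h
    push Not at h
    exact hxK (hCleK ⟨(hT.1 hxT).1, mem_centralizer_iff.2 fun k hk => (h k hk).symm⟩)
  have hn6 : ¬ r ^ 6 ∣ Nat.card Q := fun h6 => hxk (hab h6 T hT.isPGroup x hxT k (hRT hkR))
  obtain ⟨j, hj⟩ := hT.isPGroup.exists_card_eq
  obtain ⟨i, hi⟩ := hR.isPGroup.exists_card_eq
  have hij : i < j := by
    refine (Nat.pow_lt_pow_iff_right hr.out.one_lt).1 ?_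
    rw [← hi, ← hj]
    by_contra hle
    exact hxK (hR.1 ((eq_of_le_of_card_ge hRT (not_lt.1 hle)).ge hxT))
  have hj4 : j ≤ 4 := by
    have hv : r ^ j ∣ Nat.card Q := hj ▸ Subgroup.card_subgroup_dvd_card T
    rw [hr.out.pow_dvd_iff_le_factorization Nat.card_pos.ne'] at hv hn6
    obtain ⟨e, he⟩ := hsq
    have he0 : e ≠ 0 := by
      intro h0
      rw [h0, mul_zero] at he
      exact Nat.card_pos.ne' he
    rw [he, Nat.factorization_mul he0 he0, Finsupp.add_apply] at hv hn6
    omega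
  obtain ⟨m, hm⟩ := relIndex_centralizer_dvd (N := N) inf_le_right hR.isPGroup
    (hi ▸ pow_dvd_pow r (by omega : i ≤ 3))
  refine ⟨m, dvd_trans ?_ hm⟩
  rw [hidx, ← inf_relIndex_right K N, ← inf_relIndex_right (centralizer (R : Set Q)) N]
  exact relIndex_dvd_of_le_left _ (le_inf (fun y hy => hCleK ⟨hy.2.1, hy.1⟩) inf_le_right)

end CfsgLib.Char.SmallRamified
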