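import Cfsg.Agent.Lib.Walter.Consumers.SylowOrderEight
import Cfsg.Agent.Lib.Walter.Main

/-!
# Simple groups with a non-abelian Sylow `2`-subgroup of order eight
-/

set_option autoImplicit false
set_option linter.style.haveILetI false

namespace CfsgLib.Char.SmallRamified

open Subgroup
open CfsgLib.Walter.Consumers
open scoped commutatorElement

universe u

/-- A simple group with a non-abelian Sylow `2`-subgroup of order eight. -/
theorem sylow_eight_nonabelian {G : Type u} [Group G] [Finite G] [IsSimpleGroup G]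
    (hG : ¬ IsMulCommutative G) (T : Sylow 2 G) (hT : Nat.card ↥(T : Subgroup G) = 8)
    (hab : ¬ IsMulCommutative ↥(T : Subgroup G)) :
    (∃ (F : Type) (_ : Field F) (_ : Fintype F), (Fintype.card F % 16 = 7 ∨ Fintype.card F % 16 = 9) ∧
      Nonempty (G ≃* Matrix.ProjectiveSpecialLinearGroup (Fin 2) F)) ∨
    Nonempty (G ≃* alternatingGroup (Fin 7)) := by
  haveI : Fact (Nat.Prime 2) := ⟨Nat.prime_two⟩
  have hk : Odd (T : Subgroup G).index := Nat.not_even_iff_odd.1 fun h =>
    T.not_dvd_index (even_iff_two_dvd.1 h)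
  have hcard : Nat.card G = 8 * (T : Subgroup G).index := by rw [← hT, card_mul_index]
  have hps : ∀ {F : Type} [Field F] [Fintype F], (G ≃* Matrix.ProjectiveSpecialLinearGroup (Fin 2) F) →
      Nat.card (Matrix.ProjectiveSpecialLinearGroup (Fin 2) F) = 8 * (T : Subgroup G).index :=
    fun e => by rw [← Nat.card_congr e.toEquiv, hcard]
  -- two involutions in `T`
  obtain ⟨s, t, hs, ht, hne⟩ : ∃ s t : ↥(T : Subgroup G), orderOf s = 2 ∧ orderOf t = 2 ∧ s ≠ t := by
    by_contra hno
    push Not at hno
    have heven : Even (Nat.card G) := ⟨4 * (T : Subgroup G).index, by omega⟩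
    obtain ⟨z, hz, N, hN, hNodd, hzN⟩ := Cfsg.Agent.S0225.result heven (fun E hE => by
      haveI := hE
      obtain ⟨S, hS⟩ := (IsPGroup.of_card (p := 2) (n := 2) (G := E)
        (IsKleinFour.card_four)).exists_le_sylow
      let e := Sylow.equiv S T
      have hinv : ∀ x : E, x ≠ 1 → orderOf (e ⟨x, hS x.2⟩) = 2 := fun x hx => by
        rw [MulEquiv.orderOf_eq, ← Subgroup.orderOf_coe, Subgroup.coe_mk, Subgroup.orderOf_coe]
        exact orderOf_eq_prime (by rw [pow_two]; exact IsKleinFour.mul_self x) hx
      haveI : Nontrivial E := Finite.one_lt_card_iff_nontrivial.1 (by rw [IsKleinFour.card_four]; norm_num)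
      obtain ⟨x, hx⟩ := exists_ne (1 : E)
      obtain ⟨y, hy, hyx⟩ : ∃ y : E, y ≠ 1 ∧ y ≠ x := by
        by_contra h
        push Not at h
        have hle : (⊤ : Subgroup E) ≤ zpowers x := fun y _ => by
          by_cases hy : y = 1
          · rw [hy]; exact one_mem _
          · rw [h y hy]; exact mem_zpowers x
        have h1 := Subgroup.card_le_of_le hle
        rw [Subgroup.card_top, IsKleinFour.card_four, Nat.card_zpowers,
          orderOf_eq_prime (show x ^ 2 = 1 by rw [pow_two]; exact IsKleinFour.mul_self x) hx] at h1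
        omega
      exact hyx (Subtype.ext (congrArg (fun z : ↥(S : Subgroup G) => (z : G))
        (e.injective (hno _ _ (hinv y hy) (hinv x hx))))))
    rcases (inferInstance : IsSimpleGroup G).eq_bot_or_eq_top_of_normal N hN with rfl | rfl
    · have hzc : z ∈ Subgroup.center G := mem_center_iff.2 fun g => by
        have h := mem_bot.1 (hzN g)
        rw [mul_inv_eq_one, mul_inv_eq_iff_eq_mul] at h
        exact h.symm
      rcases (inferInstance : IsSimpleGroup G).eq_bot_or_eq_top_of_normal (Subgroup.center G)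
        inferInstance with h | h
      · rw [h, mem_bot] at hzc
        rw [hzc, orderOf_one] at hz
        omega
      · exact hG (isMulCommutative_iff.2 fun a b =>
          (mem_center_iff.1 (h ▸ Subgroup.mem_top a : a ∈ Subgroup.center G) b).symm)
    · rw [Subgroup.card_top] at hNodd
      exact Nat.not_even_iff_odd.2 hNodd heven
  obtain ⟨e⟩ := dihedral_of_eight hT hab hs ht hne
  haveI : Group.IsPerfect G := ⟨((inferInstance : IsSimpleGroup G).eq_bot_or_eq_top_of_normal _
    inferInstance).resolve_left fun h => hG (isMulCommutative_iff.2 fun a b =>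
      commutatorElement_eq_one_iff_mul_comm.1 (mem_bot.1 (h ▸
        (Subgroup.commutator_mem_commutator (Subgroup.mem_top a) (Subgroup.mem_top b) :
          ⁅a, b⁆ ∈ commutator G))))⟩
  have hcore : Cfsg.oddCore G = ⊥ :=
    ((inferInstance : IsSimpleGroup G).eq_bot_or_eq_top_of_normal _ inferInstance).resolve_right fun h => by
      have h1 := CfsgLib.Coprime.pPrimeCore_not_dvd (G := G) Nat.prime_two
      rw [show Cfsg.pPrimeCore 2 G = ⊤ from h, Subgroup.card_top, hcard] at h1
      exact h1 ⟨4 * (T : Subgroup G).index, by ring⟩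
  let q : G ≃* G ⧸ Cfsg.oddCore G :=
    (QuotientGroup.quotientBot (G := G)).symm.trans (QuotientGroup.quotientMulEquivOfEq hcore.symm)
  rcases (CfsgLib.GW.gw_perfect G (CfsgLib.GW.dihTwo_of_sylow T (by norm_num) e)).congr q with
    ⟨F, iF, iF', hodd, -, ⟨f⟩⟩ | hA
  · exact Or.inl ⟨F, iF, iF', psl_odd_eight hodd hk (hps f), ⟨f⟩⟩
  · exact Or.inr hA

end CfsgLib.Char.SmallRamified
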