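import Mathlib.GroupTheory.Sylow
import Mathlib.GroupTheory.QuotientGroup.Basic
import Mathlib.Tactic

/-!
# The commutator pairing of a non-degenerate central extension
-/

set_option autoImplicit false
set_option linter.style.haveILetI false
set_option linter.unusedSectionVars false

namespace CfsgLib.Char.SmallRamified

open Subgroup

universe u v

/-- A central extension in which no non-trivial element of the quotient is good. -/
structure Pairing (Q : Type u) [Group Q] where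
  /-- the extension -/
  W : Type u
  /-- its group law -/
  [grp : Group W]
  /-- the projection -/
  proj : W →* Q
  surj : Function.Surjective proj
  central : ∀ k : W, proj k = 1 → ∀ w : W, k * w = w * k
  nondeg : ∀ x : W, proj x ≠ 1 → ∃ y : W, proj x * proj y = proj y * proj x ∧ x * y ≠ y * x

attribute [instance] Pairing.grp

variable {Q : Type u} [Group Q] [Finite Q]

/-- No element of prime order has a scaled Sylow subgroup in its centraliser. -/
theorem Pairing.false_of_scaled (B : Pairing Q) {r : ℕ} [hr : Fact r.Prime] {x l : Q} (hx : orderOf x = r) {a : ℕ}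
    (ha : l * x * l⁻¹ = x ^ a) (ha1 : x ^ a ≠ x) (P : Subgroup Q) (hPr : IsPGroup r P)
    (hPc : ∀ y ∈ P, y * x = x * y)
    (hPmax : ∀ T : Subgroup Q, IsPGroup r T → P ≤ T → (∀ y ∈ T, y * x = x * y) → T = P)
    (hl : ∀ y ∈ P, l * y * l⁻¹ ∈ P) (P₀ : Subgroup Q) (hP₀ : P₀ ≤ P)
    (hcomm : ∀ y ∈ P, l * y * l⁻¹ * y⁻¹ ∈ P₀) (c : Q) (hxc : x ∈ zpowers c)
    (hc : ∀ p ∈ P₀, l * p * l⁻¹ * p⁻¹ ∈ zpowers c) : False := by
  classical
  obtain ⟨X, hX⟩ := B.surj x
  obtain ⟨Λ, hΛ⟩ := B.surj l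
  set C := centralizer ({x} : Set Q) with hC
  choose lift hlift using B.surj
  have hmemC : ∀ {y : Q}, y ∈ C ↔ y * x = x * y := by
    intro y; rw [hC, mem_centralizer_singleton_iff]
  -- the commutator with a lift of `x`
  let f₀ : B.W → B.W := fun Y => X * Y * X⁻¹ * Y⁻¹
  have hker : ∀ Y : B.W, B.proj Y * x = x * B.proj Y → B.proj (f₀ Y) = 1 := by
    intro Y hY
    simp only [f₀, map_mul, map_inv, hX]
    rw [← hY, mul_inv_cancel_right, mul_inv_cancel]
  have hcong : ∀ Y k : B.W, B.proj k = 1 → f₀ (Y * k) = f₀ Y := by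
    intro Y k hk
    simp only [f₀]
    rw [mul_inv_rev, show X * (Y * k) * X⁻¹ = X * Y * (k * X⁻¹) by group, B.central k hk]
    group
  have hlift' : ∀ Y : B.W, f₀ (lift (B.proj Y)) = f₀ Y := by
    intro Y
    have : lift (B.proj Y) = Y * (Y⁻¹ * lift (B.proj Y)) := by group
    rw [this, hcong]
    rw [map_mul, map_inv, hlift, inv_mul_cancel]
  let f : C →* B.W := MonoidHom.mk' (fun y => f₀ (lift y)) fun y z => by
    have h1 : f₀ (lift ((y * z : C) : Q)) = f₀ (lift y * lift z) := by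
      rw [← hlift' (lift y * lift z)]
      congr 2
      rw [map_mul, hlift, hlift]
      rfl
    have hcy := B.central _ (hker (lift z) (by rw [hlift]; exact hmemC.1 z.2))
    rw [h1]
    simp only [f₀] at hcy ⊢
    calc X * (lift y * lift z) * X⁻¹ * (lift y * lift z)⁻¹
        = X * lift y * X⁻¹ * ((X * lift z * X⁻¹ * (lift z)⁻¹) * (lift y)⁻¹) := by group
      _ = X * lift y * X⁻¹ * ((lift y)⁻¹ * (X * lift z * X⁻¹ * (lift z)⁻¹)) := by rw [hcy]
      _ = _ := by group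
  have hfY : ∀ (Y : B.W) (y : C), B.proj Y = y → f y = f₀ Y := fun Y y h => by
    show f₀ (lift y) = f₀ Y
    rw [← h, hlift']
  have hfker : ∀ y : C, B.proj (f y) = 1 := fun y =>
    hker _ (by rw [hlift]; exact hmemC.1 y.2)
  -- exponent `r`
  have hpow : ∀ y : C, f y ^ r = 1 := by
    intro y
    have hk : B.proj (X ^ r) = 1 := by rw [map_pow, hX, ← hx, pow_orderOf_eq_one]
    have hconj : ∀ n : ℕ, X ^ n * lift y * (X ^ n)⁻¹ * (lift y)⁻¹ = f y ^ n := by
      intro n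
      induction n with
      | zero => simp
      | succ n ih =>
        have hcy := B.central _ (hfker y)
        rw [pow_succ' (f y), ← ih]
        calc X ^ (n + 1) * lift y * (X ^ (n + 1))⁻¹ * (lift y)⁻¹
            = X * (X ^ n * lift y * (X ^ n)⁻¹ * (lift y)⁻¹) * X⁻¹ * (X * lift y * X⁻¹ * (lift y)⁻¹) := by
              rw [pow_succ']; group
          _ = (X ^ n * lift y * (X ^ n)⁻¹ * (lift y)⁻¹) * f y := by
              have hp : B.proj (X ^ n * lift y * (X ^ n)⁻¹ * (lift y)⁻¹) = 1 := by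
                rw [ih, map_pow, hfker, one_pow]
              rw [← B.central _ hp X, mul_inv_cancel_right]
              rfl
          _ = _ := (hcy _).symm
    rw [← hconj, B.central _ hk, mul_inv_cancel_right, mul_inv_cancel]
  -- the elements whose powers contain `x`
  have hcyc : ∀ y : C, x ∈ zpowers (y : Q) → f y = 1 := by
    intro y hy
    obtain ⟨i, hi⟩ := mem_zpowers_iff.1 hy
    set k := X * (lift y ^ i)⁻¹
    have hk : B.proj k = 1 := by rw [map_mul, map_inv, map_zpow, hX, hlift, hi, mul_inv_cancel]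
    show X * lift y * X⁻¹ * (lift y)⁻¹ = 1
    have h1 : X * lift y = lift y * X := by
      rw [show X = k * lift y ^ i by simp [k]]
      exact (Commute.mul_left (B.central k hk (lift y)) (Commute.zpow_self (lift y) i)).eq
    rw [h1, mul_inv_cancel_right, mul_inv_cancel]
  -- naturality
  have hPC : P ≤ C := fun y hy => hmemC.2 (hPc y hy)
  have hlC : ∀ y ∈ P, l * y * l⁻¹ ∈ C := fun y hy => hPC (hl y hy)
  have hnat : ∀ (y : Q) (hy : y ∈ P), f ⟨y, hPC hy⟩ = f ⟨l * y * l⁻¹, hlC y hy⟩ ^ a := by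
    intro y hy
    set Y := lift y
    set Y' := Λ * Y * Λ⁻¹ with hY'
    have hY'p : B.proj Y' = l * y * l⁻¹ := by rw [hY', map_mul, map_mul, map_inv, hΛ, hlift]
    have hkk : B.proj (Λ * X * Λ⁻¹ * (X ^ a)⁻¹) = 1 := by
      rw [map_mul, map_mul, map_mul, map_inv, map_inv, map_pow, hΛ, hX, ha, mul_inv_cancel]
    have h1 : Λ * f₀ Y * Λ⁻¹ = f₀ Y := by
      rw [← B.central (f₀ Y) (hker Y (by rw [hlift]; exact hPc y hy)) Λ, mul_inv_cancel_right]
    set F := f ⟨l * y * l⁻¹, hlC y hy⟩ with hF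
    have hconj : ∀ n : ℕ, X ^ n * Y' * (X ^ n)⁻¹ * Y'⁻¹ = F ^ n := by
      intro n
      induction n with
      | zero => simp
      | succ n ih =>
        have hp : B.proj (X ^ n * Y' * (X ^ n)⁻¹ * Y'⁻¹) = 1 := by
          rw [ih, map_pow, hfker, one_pow]
        rw [pow_succ F, ← ih]
        calc X ^ (n + 1) * Y' * (X ^ (n + 1))⁻¹ * Y'⁻¹
            = X * (X ^ n * Y' * (X ^ n)⁻¹ * Y'⁻¹) * X⁻¹ * f₀ Y' := by
              simp only [f₀]; rw [pow_succ']; group
          _ = _ := by rw [← B.central _ hp X, mul_inv_cancel_right, hF, hfY Y' _ hY'p]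
    calc f ⟨y, hPC hy⟩ = f₀ Y := hfY Y _ (hlift y)
      _ = Λ * f₀ Y * Λ⁻¹ := h1.symm
      _ = (Λ * X * Λ⁻¹) * Y' * (Λ * X * Λ⁻¹)⁻¹ * Y'⁻¹ := by simp only [f₀, hY']; group
      _ = X ^ a * Y' * (X ^ a)⁻¹ * Y'⁻¹ := by
          set k := Λ * X * Λ⁻¹ * (X ^ a)⁻¹ with hk
          rw [show Λ * X * Λ⁻¹ = k * X ^ a by rw [hk, inv_mul_cancel_right]]
          rw [mul_inv_rev, show k * X ^ a * Y' * ((X ^ a)⁻¹ * k⁻¹) = k * (X ^ a * Y' * (X ^ a)⁻¹) * k⁻¹ by group,
            B.central k hkk, mul_inv_cancel_right]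
      _ = F ^ a := hconj a
  -- `f` kills `P₀`
  have hacop : ∀ w : B.W, w ^ r = 1 → w = w ^ a → w = 1 := by
    intro w h1 h2
    rcases (Nat.dvd_prime hr.out).1 (orderOf_dvd_of_pow_eq_one h1) with h3 | h3
    · exact orderOf_eq_one_iff.1 h3
    · exfalso
      refine ha1 ?_
      have h4 : w ^ 1 = w ^ a := by rw [pow_one]; exact h2
      rw [pow_eq_pow_iff_modEq, h3, ← hx, ← pow_eq_pow_iff_modEq, pow_one] at h4
      exact h4.symm
  have hkill₀ : ∀ (p : Q) (hp : p ∈ P₀), f ⟨p, hPC (hP₀ hp)⟩ = 1 := by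
    intro p hp
    refine hacop _ (hpow _) ?_
    have hp' := hP₀ hp
    have h2 : f ⟨l * p * l⁻¹, hlC p hp'⟩ = f ⟨p, hPC hp'⟩ := by
      have hw : l * p * l⁻¹ * p⁻¹ ∈ C := C.mul_mem (hlC p hp') (C.inv_mem (hPC hp'))
      rw [show (⟨l * p * l⁻¹, hlC p hp'⟩ : C) = ⟨_, hw⟩ * ⟨p, hPC hp'⟩ from Subtype.ext (by simp), map_mul]
      have h3 : f ⟨_, hw⟩ = 1 := by
        obtain ⟨i, hi⟩ := mem_zpowers_iff.1 (hc p hp)
        have hcC : c ∈ C → f ⟨_, hw⟩ = 1 := fun hcC => by
          rw [show (⟨l * p * l⁻¹ * p⁻¹, hw⟩ : C) = ⟨c, hcC⟩ ^ i from Subtype.ext (by simp [hi]), map_zpow,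
            hcyc ⟨c, hcC⟩ hxc, one_zpow]
        refine hcC (hmemC.2 ?_)
        obtain ⟨j, hj⟩ := mem_zpowers_iff.1 hxc
        rw [← hj]
        exact (Commute.self_zpow c j).eq
      rw [h3, one_mul]
    conv_lhs => rw [hnat p hp']
    rw [h2]
  have hkill : ∀ (y : Q) (hy : y ∈ P), f ⟨y, hPC hy⟩ = 1 := by
    intro y hy
    refine hacop _ (hpow _) ?_
    have hw : l * y * l⁻¹ * y⁻¹ ∈ C := hPC (hP₀ (hcomm y hy))
    have h2 : f ⟨l * y * l⁻¹, hlC y hy⟩ = f ⟨y, hPC hy⟩ := by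
      rw [show (⟨l * y * l⁻¹, hlC y hy⟩ : C) = ⟨_, hw⟩ * ⟨y, hPC hy⟩ from Subtype.ext (by simp), map_mul,
        hkill₀ _ (hcomm y hy), one_mul]
    conv_lhs => rw [hnat y hy]
    rw [h2]
  -- the image is trivial
  obtain ⟨S, hS⟩ := (hPr.of_equiv (subgroupOfEquivOfLe hPC).symm).exists_le_sylow
  have hSP : (S : Subgroup C) = P.subgroupOf C := by
    refine le_antisymm (fun y hy => ?_) hS
    have := hPmax ((S : Subgroup C).map C.subtype) (S.2.map _)
      (fun q hq => ⟨⟨q, hPC hq⟩, hS (mem_subgroupOf.2 hq), rfl⟩)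
      (fun q hq => hmemC.1 (map_subtype_le _ hq))
    exact mem_subgroupOf.2 (this ▸ ⟨y, hy, rfl⟩)
  have hSk : (S : Subgroup C) ≤ f.ker := by
    intro y hy
    rw [hSP, mem_subgroupOf] at hy
    exact hkill _ hy
  have htop : f.ker = ⊤ := by
    rw [← index_eq_one]
    by_contra hne
    obtain ⟨q, hq, hqd⟩ := Nat.exists_prime_and_dvd hne
    rw [index_ker] at hqd
    haveI := Fact.mk hq
    haveI : Finite f.range := Finite.of_surjective _ f.rangeRestrict_surjective
    obtain ⟨⟨w, y, rfl⟩, hwo⟩ := exists_prime_orderOf_dvd_card' q hqd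
    replace hwo : orderOf (f y) = q := (Subgroup.orderOf_coe _).trans hwo
    have hqr : q = r := (Nat.prime_dvd_prime_iff_eq hq hr.out).1 (hwo ▸ orderOf_dvd_of_pow_eq_one (hpow y))
    refine S.not_dvd_index ((?_ : r ∣ f.ker.index).trans (index_dvd_of_le hSk))
    rw [index_ker]
    exact hqr ▸ hqd
  obtain ⟨Y, hYc, hY⟩ := B.nondeg X (by rw [hX]; intro h; exact hr.out.ne_one (by rw [← hx, h, orderOf_one]))
  rw [hX] at hYc
  have := hfY Y ⟨B.proj Y, hmemC.2 hYc.symm⟩ rfl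
  rw [(MonoidHom.mem_ker).1 (htop ▸ mem_top _)] at this
  exact hY (mul_inv_eq_one.1 (by rw [this]; simp only [f₀]; group) )

end CfsgLib.Char.SmallRamified
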