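import Cfsg.Agent.Lib.Char.FullyRamifiedBasic
import Cfsg.Agent.Lib.Char.ExtendPower
import Cfsg.Agent.Lib.Char.SmallRamified.Pairing

/-!
# The commutator pairing of a fully ramified section
-/

set_option autoImplicit false
set_option linter.style.haveILetI false
set_option linter.unusedSectionVars false

namespace CfsgLib.Char.SmallRamified

open Cfsg CfsgLib CfsgLib.Char CfsgLib.Char.FullyRam Subgroup
open scoped ComplexConjugate

universe u

variable {A : Type u} [Group A] [Fintype A] {Z : Subgroup A} [hZ : Z.Normal] {θ : IrrCharacter Z}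
  {χ : IrrCharacter A}

/-- An extension fixed on its coset by the centraliser of that coset does not exist. -/
theorem not_fixed (h : FR Z θ χ) {L : Subgroup A} [Fintype Z] [Fintype L] (hZL : Z ≤ L) {x : A} (hxL : x ∈ L)
    (hxZ : x ∉ Z) (ψ : IrrCharacter L)
    (hψ : ∀ n : Z, (ψ : L → ℂ) ⟨n, hZL n.2⟩ = (θ : Z → ℂ) n)
    (hfix : ∀ (a g : A) (hg : ((g : A) : A ⧸ Z) = x) (hgL : g ∈ L) (hgL' : a⁻¹ * g * a ∈ L),
      ((a : A) : A ⧸ Z) * x = (x : A ⧸ Z) * a → (ψ : L → ℂ) ⟨a⁻¹ * g * a, hgL'⟩ = (ψ : L → ℂ) ⟨g, hgL⟩) :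
    False := by
  classical
  have := Fintype.ofFinite (Z.subgroupOf L)
  let eZ := Subgroup.subgroupOfEquivOfLe hZL
  let θ' : IrrCharacter (Z.subgroupOf L) :=
    ⟨fun n => (θ : Z → ℂ) (eZ n), isIrrCharacter_comp_surjective θ.2 eZ.toMonoidHom eZ.surjective⟩
  have hψres : ∀ n : Z.subgroupOf L, (ψ : L → ℂ) n = (θ : Z → ℂ) (eZ n) := fun n => hψ (eZ n)
  have hψirr : IsIrrCharacter (Z.subgroupOf L) fun n : Z.subgroupOf L => (ψ : L → ℂ) n := by
    rw [show (fun n : Z.subgroupOf L => (ψ : L → ℂ) n) = (θ' : Z.subgroupOf L → ℂ) from funext hψres]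
    exact θ'.2
  have hmemL : ∀ g : A, ((g : A) : A ⧸ Z) = x → g ∈ L := by
    intro g hg
    have := QuotientGroup.eq.1 hg.symm
    rw [show g = x * (x⁻¹ * g) by group]
    exact L.mul_mem hxL (hZL this)
  let F : A → ℂ := fun g => if hg : ((g : A) : A ⧸ Z) = x then (ψ : L → ℂ) ⟨g, hmemL g hg⟩ else 0
  let f : A → ℂ := fun g => ∑ a : A, F (a⁻¹ * g * a)
  have hfc : IsClassFunction A f := fun g t => by
    refine Fintype.sum_bijective (fun a => t⁻¹ * a) (Group.mulLeft_bijective _) _ _ fun a => ?_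
    congr 1
    group
  have hperp : ∀ ξ : IrrCharacter A, classInner f (ξ : A → ℂ) = 0 := by
    intro ξ
    have h1 : ∑ g : A, f g * conj ((ξ : A → ℂ) g) = (Nat.card A : ℂ) * ∑ g : A, F g * conj ((ξ : A → ℂ) g) := by
      simp only [f, Finset.sum_mul]
      rw [Finset.sum_comm, Finset.sum_congr rfl fun a _ =>
        show ∑ g : A, F (a⁻¹ * g * a) * conj ((ξ : A → ℂ) g) = ∑ g : A, F g * conj ((ξ : A → ℂ) g) from ?_,
        Finset.sum_const, Finset.card_univ, ← Nat.card_eq_fintype_card, nsmul_eq_mul]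
      refine Fintype.sum_bijective (fun g => a⁻¹ * g * a)
        ((Group.mulRight_bijective a).comp (Group.mulLeft_bijective a⁻¹)) _ _ fun g => ?_
      congr 2
      have := isClassFunction_irr ξ g a⁻¹
      rw [inv_inv] at this
      exact this.symm
    have h2 : ∑ g : A, F g * conj ((ξ : A → ℂ) g) = 0 := by
      by_cases hξ : classInner (fun z : Z => (ξ : A → ℂ) z) (θ : Z → ℂ) = 0
      · have hres0 : classInner (fun n : Z.subgroupOf L => (ξ : A → ℂ) ((n : L) : A)) (θ' : Z.subgroupOf L → ℂ) = 0 :=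
          (classInner_equiv eZ (fun z : Z => (ξ : A → ℂ) z) (θ : Z → ℂ)).trans hξ
        have h3 := coset_sum_eq_zero (Z := Z.subgroupOf L) (θ := θ') (funext hψres)
          (isCharacter_comp (isCharacter_irr ξ) L.subtype) hres0 ⟨x, hxL⟩
        rw [cosetAvg, mul_eq_zero] at h3
        have h4 := h3.resolve_left (inv_ne_zero (by exact_mod_cast Nat.card_pos.ne'))
        rw [← Finset.sum_filter_of_ne (p := fun g : A => ((g : A) : A ⧸ Z) = x) fun g _ hg => by
          by_contra hne; exact hg (by simp only [F, dif_neg hne, zero_mul])]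
        have h5 := congrArg conj h4
        rw [map_zero, map_sum] at h5
        rw [← h5]
        symm
        refine Finset.sum_bij (fun (n : Z.subgroupOf L) _ => ((n : L) : A) * x) (fun n _ => ?_)
          (fun n _ m _ e => ?_) (fun g hg => ?_) (fun n _ => ?_)
        · refine Finset.mem_filter.2 ⟨Finset.mem_univ _, ?_⟩
          rw [QuotientGroup.mk_mul, (QuotientGroup.eq_one_iff _).2 (Subgroup.mem_subgroupOf.1 n.2), one_mul]
        · exact Subtype.ext (Subtype.ext (mul_right_cancel e))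
        · have hgx := (Finset.mem_filter.1 hg).2
          have hgz : g * x⁻¹ ∈ Z := by
            rw [← QuotientGroup.eq_one_iff, QuotientGroup.mk_mul, QuotientGroup.mk_inv, hgx, mul_inv_cancel]
          exact ⟨⟨⟨g * x⁻¹, hZL hgz⟩, Subgroup.mem_subgroupOf.2 hgz⟩, Finset.mem_univ _, by simp⟩
        · have hnx : ((((n : L) : A) * x : A) : A ⧸ Z) = x := by
            rw [QuotientGroup.mk_mul, (QuotientGroup.eq_one_iff _).2 (Subgroup.mem_subgroupOf.1 n.2), one_mul]
          simp only [F, dif_pos hnx, map_mul, Complex.conj_conj]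
          rw [mul_comm]
          rfl
      · rw [h.unique ξ hξ]
        refine Finset.sum_eq_zero fun g _ => ?_
        by_cases hg : ((g : A) : A ⧸ Z) = x
        · rw [h.vanish fun hgz => hxZ ?_, map_zero, mul_zero]
          rw [← QuotientGroup.eq_one_iff, ← hg]
          exact (QuotientGroup.eq_one_iff g).2 hgz
        · simp only [F, dif_neg hg, zero_mul]
    rw [classInner, h1, h2, mul_zero, mul_zero]
  have hf0 := classFun_eq_zero_of_perp hfc hperp
  obtain ⟨n, hn⟩ : ∃ n : Z.subgroupOf L, (ψ : L → ℂ) ((n : L) * ⟨x, hxL⟩) ≠ 0 := by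
    by_contra hall
    push Not at hall
    have h1 := congrFun (cosetAvg_self_eq_one (Z.subgroupOf L) ψ hψirr) ⟨x, hxL⟩
    rw [cosetAvg, Finset.sum_eq_zero (fun n _ => by rw [hall n, zero_mul]), mul_zero] at h1
    exact zero_ne_one h1
  set g₀ := ((n : L) : A) * x
  have hnx : ((g₀ : A) : A ⧸ Z) = x := by
    rw [QuotientGroup.mk_mul, (QuotientGroup.eq_one_iff _).2 (Subgroup.mem_subgroupOf.1 n.2), one_mul]
  let S : Finset A := Finset.univ.filter fun a : A => ((a : A) : A ⧸ Z) * x = (x : A ⧸ Z) * a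
  have hval : ∀ a : A, F (a⁻¹ * g₀ * a) = if a ∈ S then F g₀ else 0 := by
    intro a
    have hiff : ((a⁻¹ * g₀ * a : A) : A ⧸ Z) = x ↔ a ∈ S := by
      simp only [S, Finset.mem_filter, Finset.mem_univ, true_and]
      rw [QuotientGroup.mk_mul, QuotientGroup.mk_mul, QuotientGroup.mk_inv, hnx, mul_assoc,
        inv_mul_eq_iff_eq_mul]
      exact eq_comm
    split_ifs with ha
    · simp only [F]
      rw [dif_pos (hiff.2 ha), dif_pos hnx]
      exact hfix a g₀ hnx _ _ (Finset.mem_filter.1 ha).2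
    · simp only [F]
      rw [dif_neg fun h' => ha (hiff.1 h')]
  have h3 : f g₀ = (S.card : ℂ) * F g₀ := by
    simp only [f]
    rw [Finset.sum_congr rfl fun a _ => hval a, Finset.sum_ite_mem, Finset.univ_inter, Finset.sum_const,
      nsmul_eq_mul]
  rw [hf0, Pi.zero_apply, eq_comm, mul_eq_zero] at h3
  refine hn ?_
  have h4 := h3.resolve_left (by
    have h1 : (1 : A) ∈ S := by simp [S]
    exact_mod_cast (Finset.card_pos.2 ⟨_, h1⟩).ne')
  simp only [F, dif_pos hnx] at h4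
  exact h4

/-- The pairing of a fully ramified section. -/
theorem exists_pairing (h : FR Z θ χ) : Nonempty (Pairing (A ⧸ Z)) := by
  classical
  have := Fintype.ofFinite Z
  obtain ⟨d, ρ, hρ, hρθ⟩ := θ.2
  haveI := hρ
  have hinv : IsInvariant Z ρ := fun g n => by
    rw [hρθ]
    exact congrFun (h.inv g) n
  let E := extGroup Z ρ
  haveI : (extEmb Z ρ).range.Normal := ⟨by
    rintro _ ⟨n, rfl⟩ e
    exact ⟨_, (extEmb_conj Z ρ e n).symm⟩⟩
  let W := E ⧸ (extEmb Z ρ).range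
  let π : W →* A ⧸ Z := QuotientGroup.lift _ ((QuotientGroup.mk' Z).comp (extProj Z ρ)) (by
    rintro _ ⟨n, rfl⟩
    exact (QuotientGroup.eq_one_iff _).2 (by rw [extProj_emb]; exact n.2))
  have hπ : ∀ e : E, π e = ((extProj Z ρ e : A) : A ⧸ Z) := fun e => rfl
  refine ⟨{ W := W, proj := π, surj := ?_, central := ?_, nondeg := ?_ }⟩
  · intro q
    obtain ⟨a, rfl⟩ := QuotientGroup.mk_surjective q
    obtain ⟨e, rfl⟩ := extProj_surjective Z ρ hinv a
    exact ⟨(e : W), rfl⟩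
  · intro k hk w
    obtain ⟨e, rfl⟩ := QuotientGroup.mk_surjective k
    obtain ⟨w, rfl⟩ := QuotientGroup.mk_surjective w
    rw [hπ, QuotientGroup.eq_one_iff] at hk
    obtain ⟨c, hc⟩ := eq_scal_of_proj_eq_one Z ρ (e := e * (extEmb Z ρ ⟨_, hk⟩)⁻¹) (by
      rw [map_mul, map_inv, extProj_emb, mul_inv_cancel])
    have he : ((e : E) : W) = ((extScal Z ρ c : E) : W) := by
      rw [mul_inv_eq_iff_eq_mul] at hc
      rw [hc, QuotientGroup.mk_mul, (QuotientGroup.eq_one_iff (N := (extEmb Z ρ).range) (extEmb Z ρ ⟨_, hk⟩)).2 (MonoidHom.mem_range.2 ⟨_, rfl⟩), mul_one]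
    rw [he, ← QuotientGroup.mk_mul, ← QuotientGroup.mk_mul, extScal_comm]
  intro X hX
  by_contra hgood
  push Not at hgood
  obtain ⟨e, rfl⟩ := QuotientGroup.mk_surjective X
  set x := extProj Z ρ e with hxe
  have hxZ : x ∉ Z := fun hx => hX (by rw [hπ]; exact (QuotientGroup.eq_one_iff _).2 hx)
  set L := Z ⊔ zpowers x with hL
  have hZL : Z ≤ L := le_sup_left
  have hxL : x ∈ L := mem_sup_right (mem_zpowers x)
  have := Fintype.ofFinite L
  have := Fintype.ofFinite (Z.subgroupOf L)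
  let eZ := Subgroup.subgroupOfEquivOfLe hZL
  let ρ' : Representation ℂ (Z.subgroupOf L) (Fin d → ℂ) := ρ.comp eZ.toMonoidHom
  have hirr' : IsIrrCharacter (Z.subgroupOf L) (fun n => (θ : Z → ℂ) (eZ n)) :=
    isIrrCharacter_comp_surjective θ.2 eZ.toMonoidHom eZ.surjective
  haveI : ρ'.IsIrreducible := irreducible_of_comp_eq ρ' ρ eZ.symm.toMonoidHom fun n =>
    congrArg ρ (eZ.apply_symm_apply n)
  have hcyc : IsCyclic (L ⧸ Z.subgroupOf L) := by
    refine ⟨⟨((⟨x, hxL⟩ : L) : L ⧸ Z.subgroupOf L), fun q => ?_⟩⟩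
    obtain ⟨⟨l, hl⟩, rfl⟩ := QuotientGroup.mk_surjective q
    have hl' : l ∈ (L : Set A) := hl
    rw [hL, sup_comm, Subgroup.mul_normal] at hl'
    obtain ⟨_, ⟨i, rfl⟩, z, hz, rfl⟩ := Set.mem_mul.1 hl'
    refine ⟨i, ?_⟩
    show (((⟨x, hxL⟩ : L) : L ⧸ Z.subgroupOf L)) ^ i = _
    rw [← QuotientGroup.mk_zpow, QuotientGroup.eq, Subgroup.mem_subgroupOf]
    simpa using hz
  obtain ⟨σ, hσ⟩ := extends_of_cyclic (Z.subgroupOf L) ρ' (fun g n => by
    show ρ.character (eZ (normalConjHom (Z.subgroupOf L) g n)) = ρ.character (eZ n)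
    exact hinv (g : A) (eZ n)) hcyc
  haveI := isIrreducible_of_restrict σ ρ' hσ
  let ψ : IrrCharacter L := ⟨σ.character, isIrrCharacter_character σ⟩
  have hσn : ∀ n : Z, σ ⟨n, hZL n.2⟩ = ρ n := fun n => (hσ (eZ.symm n)).trans
    (congrArg ρ (eZ.apply_symm_apply n))
  refine not_fixed h hZL hxL hxZ ψ (fun n => ?_) fun a g hg hgL hgL' hax => ?_
  · show LinearMap.trace ℂ (Fin d → ℂ) (σ ⟨n, hZL n.2⟩) = _
    rw [hσn]
    exact congrFun hρθ n
  -- the two lifts
  let lift : L → E := fun l => ⟨((l : A), σ.toHomUnits l), fun n => by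
    show σ l * ρ n = ρ (normalConjHom Z (l : A) n) * σ l
    rw [← hσn, ← hσn, ← map_mul, ← map_mul]
    congr 1
    exact Subtype.ext (by simp [normalConjHom])⟩
  obtain ⟨ea, hea⟩ := extProj_surjective Z ρ hinv a
  obtain ⟨c, hc⟩ := eq_scal_of_proj_eq_one Z ρ (e := lift ⟨x, hxL⟩ * e⁻¹) (by
    rw [map_mul, map_inv, ← hxe]; exact mul_inv_cancel x)
  rw [mul_inv_eq_iff_eq_mul] at hc
  have hgx : x⁻¹ * g ∈ Z := QuotientGroup.eq.1 hg.symm
  have hlg : ((lift ⟨g, hgL⟩ : E) : W) = ((extScal Z ρ c : E) : W) * (e : W) := by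
    rw [← QuotientGroup.mk_mul, ← hc, QuotientGroup.eq]
    refine ⟨⟨g⁻¹ * x, by simpa using Z.inv_mem hgx⟩, ext_ext Z ρ ?_ ?_⟩
    · rw [extProj_emb, map_mul, map_inv]; rfl
    · rw [extOp_emb, map_mul, map_inv]
      show _ = (σ.toHomUnits ⟨g, hgL⟩)⁻¹ * σ.toHomUnits ⟨x, hxL⟩
      refine Eq.trans (Units.ext ?_) ((map_mul σ.toHomUnits _ _).trans (congrArg (· * _) (map_inv σ.toHomUnits _)))
      rw [MonoidHom.coe_toHomUnits, MonoidHom.coe_toHomUnits, ← hσn]
      rfl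
  have hcomm : (e : W) * (ea : W) = (ea : W) * (e : W) := by
    refine hgood _ ?_
    rw [hπ, hπ, hea, ← hxe, ← hax]
  have hW : ((ea⁻¹ * lift ⟨g, hgL⟩ * ea : E) : W) = ((lift ⟨g, hgL⟩ : E) : W) := by
    rw [QuotientGroup.mk_mul, QuotientGroup.mk_mul, QuotientGroup.mk_inv, hlg]
    have hcc : ((extScal Z ρ c : E) : W) * (ea : W) = (ea : W) * ((extScal Z ρ c : E) : W) := by
      rw [← QuotientGroup.mk_mul, ← QuotientGroup.mk_mul, extScal_comm]
    rw [mul_assoc, mul_assoc ((extScal Z ρ c : E) : W), hcomm, ← mul_assoc ((extScal Z ρ c : E) : W), hcc,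
      mul_assoc, inv_mul_cancel_left]
  obtain ⟨n, hn⟩ := QuotientGroup.eq.1 hW
  have h1 := congrArg (extProj Z ρ) hn
  have h2 := congrArg (extOp Z ρ) hn
  rw [extProj_emb, map_mul, map_inv, map_mul, map_mul, map_inv, hea] at h1
  rw [extOp_emb, map_mul, map_inv, map_mul, map_mul, map_inv] at h2
  rw [eq_inv_mul_iff_mul_eq] at h1 h2
  have h1' : g = a⁻¹ * g * a * n := h1.symm
  have hop : (σ.toHomUnits ⟨a⁻¹ * g * a, hgL'⟩) * ρ.toHomUnits n = σ.toHomUnits ⟨g, hgL⟩ := by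
    refine Units.ext ?_
    rw [Units.val_mul, MonoidHom.coe_toHomUnits, MonoidHom.coe_toHomUnits, MonoidHom.coe_toHomUnits, ← hσn,
      ← map_mul]
    congr 1
    exact Subtype.ext h1'.symm
  have hsimilar : σ.toHomUnits ⟨a⁻¹ * g * a, hgL'⟩ =
      (extOp Z ρ ea)⁻¹ * σ.toHomUnits ⟨g, hgL⟩ * extOp Z ρ ea :=
    mul_right_cancel (b := ρ.toHomUnits n) (hop.trans h2.symm)
  show LinearMap.trace ℂ _ (σ ⟨a⁻¹ * g * a, hgL'⟩) = LinearMap.trace ℂ _ (σ ⟨g, hgL⟩)
  rw [← MonoidHom.coe_toHomUnits σ, ← MonoidHom.coe_toHomUnits σ, hsimilar, Units.val_mul, LinearMap.trace_mul_comm,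
    ← Units.val_mul, ← mul_assoc, mul_inv_cancel, one_mul]

end CfsgLib.Char.SmallRamified
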