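import Cfsg.Agent.Lib.Char.SmallRamified.Main

/-!
# The theorem
-/

set_option autoImplicit false
set_option linter.style.haveILetI false
set_option linter.unusedSectionVars false

namespace CfsgLib.Char.SmallRamified

open Cfsg CfsgLib CfsgLib.Char CfsgLib.Char.FullyRam Subgroup

universe u

theorem solvable_of_small {A : Type u} [Group A] [Fintype A] {Z : Subgroup A} [Z.Normal] {θ : IrrCharacter Z}
    {χ : IrrCharacter A} (h : FR Z θ χ)
    (hab : ∀ p : ℕ, p.Prime → p ^ 6 ∣ Z.index → ∀ P : Sylow p (A ⧸ Z), IsMulCommutative P) :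
    Group.IsSolvable (A ⧸ Z) := by
  classical
  by_contra hns
  obtain ⟨B⟩ := exists_pairing h
  obtain ⟨K, hK, L, hsimp, hna, hL⟩ := exists_factor hns
  haveI := hK
  haveI := hsimp
  haveI : Fact (Nat.Prime 2) := ⟨Nat.prime_two⟩
  have hsq : IsSquare (Nat.card (A ⧸ Z)) := by
    obtain ⟨e, he, -⟩ := h.mult
    exact ⟨e, by rw [← Subgroup.index_eq_card, ← he, sq]⟩
  have hab' : ∀ (p : ℕ) [Fact p.Prime], p ^ 6 ∣ Nat.card (A ⧸ Z) → ∀ T : Subgroup (A ⧸ Z), IsPGroup p T →
      ∀ a ∈ T, ∀ b ∈ T, a * b = b * a := by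
    intro p hp hd T hT a ha b hb
    obtain ⟨P, hP⟩ := hT.exists_le_sylow
    haveI := hab p hp.out (by rw [Subgroup.index_eq_card]; exact hd) P
    exact congrArg Subtype.val (isMulCommutative_iff.1 (hab p hp.out (by rw [Subgroup.index_eq_card]; exact hd) P)
      ⟨a, hP ha⟩ ⟨b, hP hb⟩)
  obtain ⟨T⟩ : Nonempty (Sylow 2 L) := inferInstance
  have hgood : Good L := by
    by_cases hT : IsMulCommutative (T : Subgroup L) ∨ Nat.card (T : Subgroup L) = 8
    · exact good_simple hna T hT
    push Not at hT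
    obtain ⟨hTna, hT8⟩ := hT
    exfalso
    set π := QuotientGroup.mk' K with hπ
    set T' := (T : Subgroup L).map L.subtype with hT'
    obtain ⟨U, hU⟩ : ∃ U : Subgroup (A ⧸ Z), U = T'.comap π := ⟨_, rfl⟩
    obtain ⟨S, hS, -⟩ := exists_sylowIn_ge (IsPGroup.of_bot (G := A ⧸ Z) (p := 2)) (bot_le : (⊥ : Subgroup (A ⧸ Z)) ≤ U)
    have hT'p : IsPGroup 2 T' := T.2.map _
    -- the image of a Sylow subgroup of the preimage is the whole of `T'`
    have hSmap : S.map π = T' := by
      refine le_antisymm (map_le_iff_le_comap.2 (hS.1.trans hU.le)) ?_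
      have hKU : K ≤ U := hU ▸ fun k hk => by
        show π k ∈ T'
        rw [hπ, QuotientGroup.mk'_apply, (QuotientGroup.eq_one_iff k).2 hk]
        exact T'.one_mem
      have hUmap : U.map π = T' := hU ▸ map_comap_eq_self_of_surjective (QuotientGroup.mk'_surjective K) _
      obtain ⟨j, hj⟩ := hT'p.exists_card_eq
      have h1 : (S.map π).relIndex T' ∣ S.relIndex U := by
        rw [← hUmap, ← relIndex_comap, hπ]
        exact relIndex_dvd_of_le_left _ (le_comap_map _ _)
      have h2 : (S.map π).relIndex T' ∣ 2 ^ j := hj ▸ relIndex_dvd_card _ _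
      obtain ⟨i, -, hi⟩ := (Nat.dvd_prime_pow Nat.prime_two).1 h2
      by_cases hi0 : i = 0
      · rw [hi0, pow_zero, relIndex_eq_one] at hi
        exact hi
      · exfalso
        have h3 : 2 ∣ S.relIndex U := (dvd_pow_self 2 hi0).trans (hi ▸ h1)
        have h4 : ¬ 2 ∣ S.relIndex U := hS.toSylow.not_dvd_index
        exact h4 h3
    have hSna : ∃ a ∈ S, ∃ b ∈ S, a * b ≠ b * a := by
      by_contra hno
      push Not at hno
      refine hTna (isMulCommutative_iff.2 fun x y => Subtype.ext (Subtype.ext ?_))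
      obtain ⟨a, ha, hax⟩ : ((x : L) : (A ⧸ Z) ⧸ K) ∈ S.map π := hSmap.ge (mem_map_of_mem _ x.2)
      obtain ⟨b, hb, hby⟩ : ((y : L) : (A ⧸ Z) ⧸ K) ∈ S.map π := hSmap.ge (mem_map_of_mem _ y.2)
      show ((x : L) : (A ⧸ Z) ⧸ K) * (y : L) = (y : L) * (x : L)
      rw [← hax, ← hby, ← map_mul, ← map_mul, hno a ha b hb]
    obtain ⟨a, ha, b, hb, hne⟩ := hSna
    have hn6 : ¬ 2 ^ 6 ∣ Nat.card (A ⧸ Z) := fun h6 => hne (hab' 2 h6 S hS.isPGroup a ha b hb)
    obtain ⟨P, hSP⟩ := hS.isPGroup.exists_le_sylow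
    obtain ⟨j, hj⟩ := T.2.exists_card_eq
    have hPT : Nat.card (T : Subgroup L) ≤ Nat.card S := by
      rw [← card_map_of_injective L.subtype_injective, ← hT', ← hSmap]
      exact Nat.le_of_dvd Nat.card_pos (card_map_dvd _ _)
    have hj4 : j = 4 := by
      have hj8 : 3 ≤ j := by
        by_contra hlt
        refine hTna ?_
        interval_cases j
        · haveI : Subsingleton (T : Subgroup L) := (Nat.card_eq_one_iff_unique.1 (by rw [hj, pow_zero])).1
          exact isMulCommutative_iff.2 fun x y => Subsingleton.elim _ _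
        · haveI : IsCyclic (T : Subgroup L) := isCyclic_of_prime_card (p := 2) (by rw [hj, pow_one])
          exact inferInstance
        · exact IsPGroup.isMulCommutative_of_card_eq_prime_sq (p := 2) hj
      have hj3 : j ≠ 3 := fun e => hT8 (by rw [hj, e]; norm_num)
      have hPj : 2 ^ j ≤ Nat.card (P : Subgroup (A ⧸ Z)) := hj ▸ hPT.trans (card_le_of_le hSP)
      rw [P.card_eq_multiplicity] at hPj
      have hle := (Nat.pow_le_pow_iff_right (by norm_num : 1 < 2)).1 hPj
      rw [Nat.prime_two.pow_dvd_iff_le_factorization Nat.card_pos.ne'] at hn6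
      obtain ⟨e, he⟩ := hsq
      have he0 : e ≠ 0 := by
        intro h0
        rw [h0, mul_zero] at he
        exact Nat.card_pos.ne' he
      rw [he, Nat.factorization_mul he0 he0, Finsupp.add_apply] at hle hn6
      omega
    have hT16 : Nat.card (T : Subgroup L) = 16 := by rw [hj, hj4]; norm_num
    have hP16 : Nat.card (P : Subgroup (A ⧸ Z)) = 16 := by
      obtain ⟨e, he⟩ := hsq
      have hge := hT16 ▸ hPT.trans (card_le_of_le hSP)
      rw [P.card_eq_multiplicity] at hge ⊢
      rw [Nat.prime_two.pow_dvd_iff_le_factorization Nat.card_pos.ne'] at hn6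
      have he0 : e ≠ 0 := by
        intro h0
        rw [h0, mul_zero] at he
        exact Nat.card_pos.ne' he
      rw [he, Nat.factorization_mul he0 he0, Finsupp.add_apply] at hn6 hge ⊢
      have h4 : 4 ≤ e.factorization 2 + e.factorization 2 :=
        (Nat.pow_le_pow_iff_right (by norm_num : 1 < 2)).1 (show 2 ^ 4 ≤ _ from hge)
      rw [show e.factorization 2 + e.factorization 2 = 4 by omega]
      norm_num
    have hSP' : S = (P : Subgroup (A ⧸ Z)) := eq_of_le_of_card_ge hSP (by rw [hP16, ← hT16]; exact hPT)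
    have hPT' : (P : Subgroup (A ⧸ Z)).map π = T' := hSP' ▸ hSmap
    let f : (P : Subgroup (A ⧸ Z)) →* T' := (π.comp (P : Subgroup (A ⧸ Z)).subtype).codRestrict _
      fun a => hPT'.le (mem_map_of_mem _ a.2)
    have hfs : Function.Surjective f := fun y => by
      obtain ⟨a, ha, hay⟩ : (y : (A ⧸ Z) ⧸ K) ∈ (P : Subgroup (A ⧸ Z)).map π := hPT'.ge y.2
      exact ⟨⟨a, ha⟩, Subtype.ext hay⟩
    have hfb : Function.Bijective f := (Nat.bijective_iff_surjective_and_card f).2 ⟨hfs, by
      rw [hP16, hT', card_map_of_injective L.subtype_injective, hT16]⟩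
    obtain ⟨x, hx⟩ := sylow_sixteen hna T hT16 hTna
    let ε : (T : Subgroup L) ≃* (P : Subgroup (A ⧸ Z)) :=
      ((T : Subgroup L).equivMapOfInjective L.subtype L.subtype_injective).trans (MulEquiv.ofBijective f hfb).symm
    refine sylow_not_selfCentralizing h P (fun hbot => ?_) (ε x) fun y hy => ?_
    · rw [hbot, card_bot] at hP16
      omega
    · have h1 : ε.symm y * x = x * ε.symm y := ε.injective (by
        rw [map_mul, map_mul, MulEquiv.apply_symm_apply]; exact hy)
      obtain ⟨i, hi⟩ := mem_zpowers_iff.1 (hx _ h1)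
      exact ⟨i, by show ε x ^ i = y; rw [← map_zpow, hi, MulEquiv.apply_symm_apply]⟩
  obtain ⟨r, hr, hr2, hrd, hcyc, hns'⟩ := hgood
  haveI := Fact.mk hr
  obtain ⟨F, hidx⟩ := factor_of_component hna hL hcyc hrd
  obtain ⟨R, hR, -⟩ := exists_sylowIn_ge (IsPGroup.of_bot (G := A ⧸ Z) (p := r)) (bot_le : (⊥ : Subgroup (A ⧸ Z)) ≤ K)
  by_cases hcov : L.comap (QuotientGroup.mk' K) ≤
      (L.comap (QuotientGroup.mk' K) ⊓ centralizer (R : Set (A ⧸ Z))) ⊔ K
  · exact caseA B F hR hcov
  · obtain ⟨m, hm⟩ := caseB F.le F.simple F.rdvd hR hcov hsq (hab' r)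
    rw [hidx] at hm
    exact hns' m hm

end CfsgLib.Char.SmallRamified
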