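import Cfsg.Agent.Lib.Char.SmallRamified.Pairing
import Cfsg.Agent.Lib.Char.SmallRamified.Sylow
import Mathlib.GroupTheory.Transfer

/-!
# A simple factor with a cyclic Sylow subgroup is not the top of a fully ramified section
-/

set_option autoImplicit false
set_option linter.style.haveILetI false
set_option linter.unusedSectionVars false

namespace CfsgLib.Char.SmallRamified

open Subgroup
open CfsgLib.Coprime (IsSylowIn conjBy)

universe u

variable {Q : Type u} [Group Q] [Finite Q]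

/-- A simple factor `L / K` with cyclic Sylow `r`-subgroups, stable under centralisers. -/
structure Factor (r : ℕ) (K L : Subgroup Q) : Prop where
  normal : K.Normal
  le : K ≤ L
  stab : ∀ x ∈ L, x ∉ K → ∀ y : Q, y * x = x * y → ∀ w ∈ L, y * w * y⁻¹ ∈ L
  simple : ∀ M : Subgroup Q, K ≤ M → M ≤ L → L ≤ normalizer (M : Set Q) → M = K ∨ M = L
  cyc : ∀ T : Subgroup Q, T ≤ L → IsPGroup r T → ∃ c ∈ T, ∀ p ∈ T, ∃ i : ℤ, (c ^ i)⁻¹ * p ∈ K
  rdvd : r ∣ K.relIndex L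
  notp : ∀ j : ℕ, K.relIndex L ≠ r ^ j

variable {r : ℕ} [hr : Fact r.Prime]

theorem eq_one_of_pow_coprime {y : Q} (hy : ∃ j : ℕ, orderOf y = r ^ j) {N : ℕ} (hN : N.Coprime r)
    (h : y ^ N = 1) : y = 1 := by
  obtain ⟨j, hj⟩ := hy
  refine orderOf_eq_one_iff.1 (Nat.dvd_one.1 ?_)
  have h1 : orderOf y ∣ Nat.gcd (r ^ j) N := Nat.dvd_gcd (hj ▸ dvd_rfl) (orderOf_dvd_of_pow_eq_one h)
  rwa [Nat.Coprime.gcd_eq_one (hN.symm.pow_left j)] at h1

theorem orderOf_eq_pow_of_mem {P : Subgroup Q} (hP : IsPGroup r P) {y : Q} (hy : y ∈ P) :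
    ∃ j : ℕ, orderOf y = r ^ j := by
  obtain ⟨j, hj⟩ := IsPGroup.iff_orderOf.1 hP ⟨y, hy⟩
  exact ⟨j, by rwa [orderOf_mk] at hj⟩

/-- An element normalising an abelian Sylow subgroup centralises it if its part prime to `r` does. -/
theorem commute_of_normalizer {H P : Subgroup Q} (hP : IsSylowIn r P H)
    (hab : ∀ a ∈ P, ∀ b ∈ P, a * b = b * a)
    (hno : ∀ n ∈ H, n ∈ normalizer (P : Set Q) → (orderOf n).Coprime r → ∀ g ∈ P, n * g * n⁻¹ = g)
    {m : Q} (hm : m ∈ H) (hmP : m ∈ normalizer (P : Set Q)) {g : Q} (hg : g ∈ P) : m * g = g * m := by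
  obtain ⟨k, d, hd, hdd⟩ := Nat.exists_eq_pow_mul_and_not_dvd (orderOf_pos m).ne' r hr.out.ne_one
  have hcop : (r ^ k).Coprime d := (hr.out.coprime_iff_not_dvd.2 hd).pow_left k
  have h1 : Commute (m ^ (r ^ k)) g := mul_inv_eq_iff_eq_mul.1 (hno _ (H.pow_mem hm _)
    ((normalizer (P : Set Q)).pow_mem hmP _) (by
      have : orderOf (m ^ (r ^ k)) ∣ d := orderOf_dvd_of_pow_eq_one (by rw [← pow_mul, ← hdd, pow_orderOf_eq_one])
      exact (hr.out.coprime_iff_not_dvd.2 hd).symm.coprime_dvd_left this) g hg)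
  have hU : IsPGroup r (zpowers (m ^ d)) := fun y => by
    obtain ⟨i, hi⟩ := mem_zpowers_iff.1 y.2
    refine ⟨k, Subtype.ext ?_⟩
    show (y : Q) ^ (r ^ k) = 1
    rw [← hi, ← zpow_natCast, ← zpow_mul, mul_comm i, zpow_mul, zpow_natCast, ← pow_mul, mul_comm d, ← hdd,
      pow_orderOf_eq_one, one_zpow]
  have hmd : m ^ d ∈ P := (sylowIn_eq_of_le hP (IsPGroup.to_sup_of_normal_right' hU hP.isPGroup
    (zpowers_le.2 ((normalizer (P : Set Q)).pow_mem hmP _))) le_sup_right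
    (sup_le (zpowers_le.2 (H.pow_mem hm _)) hP.1)) ▸ mem_sup_left (mem_zpowers _)
  have h2 : Commute (m ^ d) g := hab _ hmd g hg
  have hb := Int.gcd_eq_gcd_ab (r ^ k : ℕ) (d : ℤ)
  rw [Int.gcd_natCast_natCast, hcop.gcd_eq_one, Nat.cast_one] at hb
  have hm' : m = (m ^ (r ^ k)) ^ Int.gcdA (r ^ k : ℕ) d * (m ^ d) ^ Int.gcdB (r ^ k : ℕ) d := by
    rw [← zpow_natCast m (r ^ k), ← zpow_natCast m d, ← zpow_mul, ← zpow_mul, ← zpow_add, ← hb, zpow_one]
  rw [hm']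
  exact ((h1.zpow_left _).mul_left (h2.zpow_left _)).eq

/-- Burnside's transfer theorem inside a subgroup. -/
theorem exists_compl {H P : Subgroup Q} (hP : IsSylowIn r P H)
    (hcent : ∀ m ∈ H, m ∈ normalizer (P : Set Q) → ∀ g ∈ P, m * g = g * m) :
    ∃ M : Subgroup Q, M ≤ H ∧ H ≤ normalizer (M : Set Q) ∧ ¬ r ∣ Nat.card M ∧
      M.relIndex H = Nat.card P := by
  let S : Sylow r H := hP.toSylow
  have hS : ∀ a : H, a ∈ (S : Subgroup H) ↔ (a : Q) ∈ P := fun a => mem_subgroupOf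
  have hNC : normalizer ((S : Subgroup H) : Set H) ≤ centralizer ((S : Subgroup H) : Set H) := by
    intro m hm
    refine mem_centralizer_iff.2 fun a ha => Subtype.ext (hcent m m.2 ?_ a ((hS a).1 ha)).symm
    refine mem_normalizer_iff.2 fun q => ⟨fun hq => ?_, fun hq => ?_⟩
    · exact (hS _).1 ((mem_normalizer_iff.1 hm ⟨q, hP.1 hq⟩).1 ((hS _).2 hq))
    · have hqL : q ∈ H := by
        have := H.mul_mem (H.mul_mem (H.inv_mem m.2) (hP.1 hq)) m.2
        simpa [mul_assoc] using this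
      exact (hS ⟨q, hqL⟩).1 ((mem_normalizer_iff.1 hm ⟨q, hqL⟩).2 ((hS _).2 hq))
  obtain ⟨Mk, hMk, hcard, hidx⟩ : ∃ Mk : Subgroup H, Mk.Normal ∧ ¬ r ∣ Nat.card Mk ∧
      Mk.index = Nat.card (S : Subgroup H) :=
    ⟨_, MonoidHom.normal_ker _, MonoidHom.not_dvd_card_ker_transferSylow S hNC,
      (MonoidHom.ker_transferSylow_isComplement' S hNC).symm.index_eq_card⟩
  refine ⟨Mk.map H.subtype, map_subtype_le _, fun m hm => ?_, ?_, ?_⟩
  · refine CfsgLib.Coprime.conjBy_eq_self_iff.1 ?_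
    refine Subgroup.eq_of_le_of_card_ge ?_ (by rw [CfsgLib.Coprime.card_conjBy])
    rintro _ ⟨_, ⟨a, ha, rfl⟩, rfl⟩
    exact ⟨⟨m, hm⟩ * a * ⟨m, hm⟩⁻¹, hMk.conj_mem a ha _, rfl⟩
  · rwa [card_map_of_injective H.subtype_injective]
  · rw [relIndex, subgroupOf, comap_map_eq_self_of_injective H.subtype_injective, hidx]
    exact Nat.card_congr (subgroupOfEquivOfLe hP.1).toEquiv

/-- An element of order prime to `r` fixing a commutator fixes the element. -/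
theorem conj_eq_of_fixed_commutator {n p : Q} (hnr : (orderOf n).Coprime r)
    (hd : ∃ j : ℕ, orderOf (n * p * n⁻¹ * p⁻¹) = r ^ j)
    (hf : n * (n * p * n⁻¹ * p⁻¹) * n⁻¹ = n * p * n⁻¹ * p⁻¹) : n * p * n⁻¹ = p := by
  set d := n * p * n⁻¹ * p⁻¹ with hdd
  have hit : ∀ i : ℕ, n ^ i * p * (n ^ i)⁻¹ = d ^ i * p := by
    intro i
    induction i with
    | zero => simp
    | succ i ih =>
      have h1 : n * (d ^ i * p) * n⁻¹ = d ^ i * (d * p) := by
        rw [show n * (d ^ i * p) * n⁻¹ = (n * d ^ i * n⁻¹) * (n * p * n⁻¹) by group, ← conj_pow, hf,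
          show n * p * n⁻¹ = d * p by rw [hdd, inv_mul_cancel_right]]
      rw [pow_succ' n, show n * n ^ i * p * (n * n ^ i)⁻¹ = n * (n ^ i * p * (n ^ i)⁻¹) * n⁻¹ by group, ih, h1,
        pow_succ, mul_assoc (d ^ i) d p]
  have h2 := hit (orderOf n)
  rw [pow_orderOf_eq_one, one_mul, inv_one, mul_one, right_eq_mul] at h2
  exact mul_inv_eq_one.1 (eq_one_of_pow_coprime hd hnr h2)

/-- The commutator image of a cyclic action has a scaled element of order `r`. -/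
theorem exists_scaled {P : Subgroup Q} (hP : IsPGroup r P) {n c g : Q}
    (hnP : ∀ p ∈ P, n * p * n⁻¹ ∈ P) (hnr : (orderOf n).Coprime r) (hc : c ∈ P) (hg : g ∈ P)
    (hng : n * g * n⁻¹ ≠ g) (himg : ∀ p ∈ P, n * p * n⁻¹ * p⁻¹ ∈ zpowers (n * c * n⁻¹ * c⁻¹)) :
    ∃ x ∈ P, orderOf x = r ∧ ∃ a : ℕ, n * x * n⁻¹ = x ^ a ∧ x ^ a ≠ x := by
  set w := n * c * n⁻¹ * c⁻¹ with hw
  have hwP : w ∈ P := P.mul_mem (hnP c hc) (P.inv_mem hc)
  have hfixed : ∀ p ∈ P, n * (n * p * n⁻¹ * p⁻¹) * n⁻¹ = n * p * n⁻¹ * p⁻¹ → n * p * n⁻¹ = p :=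
    fun p hp => conj_eq_of_fixed_commutator hnr
      (orderOf_eq_pow_of_mem hP (P.mul_mem (hnP p hp) (P.inv_mem hp)))
  have hw1 : w ≠ 1 := by
    intro h1
    refine hng (mul_inv_eq_one.1 ?_)
    obtain ⟨i, hi⟩ := himg g hg
    show n * g * n⁻¹ * g⁻¹ = 1
    rw [← hi]
    show w ^ i = 1
    rw [h1, one_zpow]
  obtain ⟨k, hk⟩ := orderOf_eq_pow_of_mem hP hwP
  have hk0 : k ≠ 0 := fun h => hw1 (orderOf_eq_one_iff.1 (by rw [hk, h, pow_zero]))
  set m := r ^ (k - 1) with hm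
  have hrm : orderOf w = r * m := by rw [hk, hm, ← pow_succ']; congr 1; omega
  set x := w ^ m with hx
  have hxo : orderOf x = r := by
    rw [hx, orderOf_pow' w (pow_ne_zero _ hr.out.ne_zero), hrm, Nat.gcd_eq_right (dvd_mul_left m r),
      Nat.mul_div_cancel _ (pow_pos hr.out.pos _)]
  have hzx : ∀ d ∈ zpowers w, d ^ r = 1 → d ∈ zpowers x := by
    intro d hd hdr
    obtain ⟨t, rfl⟩ := mem_zpowers_iff.1 hd
    rw [← zpow_natCast, ← zpow_mul, ← orderOf_dvd_iff_zpow_eq_one, hrm, Nat.cast_mul, mul_comm (r : ℤ)] at hdr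
    obtain ⟨s, hs⟩ := (Int.mul_dvd_mul_iff_right (by exact_mod_cast hr.out.ne_zero)).1 hdr
    exact ⟨s, by show x ^ s = w ^ t; rw [hx, ← zpow_natCast, ← zpow_mul, hs]⟩
  have hnw : n * w * n⁻¹ ∈ zpowers w := by
    have h1 := himg _ (hnP c hc)
    rwa [show n * (n * c * n⁻¹) * n⁻¹ * (n * c * n⁻¹)⁻¹ = n * w * n⁻¹ by rw [hw]; group] at h1
  have hnzw : ∀ v ∈ zpowers w, n * v * n⁻¹ ∈ zpowers w := by
    intro v hv
    obtain ⟨t, rfl⟩ := mem_zpowers_iff.1 hv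
    rw [← conj_zpow]
    exact zpow_mem hnw t
  have hxne : n * x * n⁻¹ ≠ x := by
    intro hfx
    have hall : ∀ (j : ℕ) (v : Q), v ∈ zpowers w → v ^ (r ^ j) = 1 → n * v * n⁻¹ = v := by
      intro j
      induction j with
      | zero => intro v _ hv; rw [pow_zero, pow_one] at hv; rw [hv]; group
      | succ j ih =>
        intro v hv hvj
        have hvr := ih (v ^ r) (pow_mem hv r) (by rw [← pow_mul, ← pow_succ']; exact hvj)
        set d := n * v * n⁻¹ * v⁻¹ with hd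
        have hdw : d ∈ zpowers w := mul_mem (hnzw v hv) (inv_mem hv)
        have hcomm : Commute (n * v * n⁻¹) v⁻¹ := by
          obtain ⟨s, hs⟩ := mem_zpowers_iff.1 (hnzw v hv)
          obtain ⟨t, ht⟩ := mem_zpowers_iff.1 hv
          rw [← hs, ← ht]
          exact (Commute.zpow_zpow_self w s t).inv_right
        have hdr : d ^ r = 1 := by rw [hd, hcomm.mul_pow, conj_pow, hvr, inv_pow, mul_inv_cancel]
        obtain ⟨s, hs⟩ := mem_zpowers_iff.1 (hzx d hdw hdr)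
        have hvP : v ∈ P := zpowers_le.2 hwP hv
        refine hfixed v hvP ?_
        rw [← hd, ← hs, ← conj_zpow, hfx]
    have hww := hall k w (mem_zpowers w) (by rw [← hk]; exact pow_orderOf_eq_one w)
    exact hw1 (by
      have := hfixed c hc hww
      show n * c * n⁻¹ * c⁻¹ = 1
      rw [this, mul_inv_cancel])
  obtain ⟨a, ha⟩ : ∃ a : ℕ, x ^ a = n * x * n⁻¹ := by
    have := hzx _ (hnzw x (pow_mem (mem_zpowers w) m)) (by
      rw [conj_pow, show x ^ r = 1 by rw [← hxo]; exact pow_orderOf_eq_one x]; group)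
    exact Submonoid.mem_powers_iff _ _ |>.1 ((isOfFinOrder_of_finite x).mem_powers_iff_mem_zpowers.2 this)
  exact ⟨x, P.pow_mem hwP m, hxo, a, ha.symm, ha ▸ hxne⟩

/-- An element scaling `x` normalises its centraliser. -/
theorem mem_centralizer_of_scaled {x : Q} (hxo : orderOf x = r) {n : Q} {a : ℕ}
    (hn : n * x * n⁻¹ = x ^ a) {y : Q} (hy : y * x = x * y) :
    (n * y * n⁻¹) * x = x * (n * y * n⁻¹) := by
  have h1 : zpowers (x ^ a) = zpowers x := by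
    refine eq_of_le_of_card_ge (zpowers_le.2 (pow_mem (mem_zpowers x) a)) ?_
    have h2 : orderOf (x ^ a) ∣ r := hxo ▸ orderOf_pow_dvd a
    rcases (Nat.dvd_prime hr.out).1 h2 with h3 | h3
    · exfalso
      rw [orderOf_eq_one_iff, ← hn] at h3
      exact hr.out.ne_one (by rw [← hxo, conj_eq_one_iff.1 h3, orderOf_one])
    · rw [Nat.card_zpowers, Nat.card_zpowers, h3, hxo]
  obtain ⟨s, hs⟩ := mem_zpowers_iff.1 (h1.ge (mem_zpowers x))
  have h4 : Commute (n * y * n⁻¹) (x ^ a) := by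
    rw [← hn]
    show n * y * n⁻¹ * (n * x * n⁻¹) = n * x * n⁻¹ * (n * y * n⁻¹)
    rw [show n * y * n⁻¹ * (n * x * n⁻¹) = n * (y * x) * n⁻¹ by group, hy]
    group
  have h5 := h4.zpow_right s
  rw [hs] at h5
  exact h5.eq

theorem mem_normalizer_centralizer_of_scaled {x : Q} (hxo : orderOf x = r) {n : Q} {a : ℕ}
    (hn : n * x * n⁻¹ = x ^ a) : n ∈ normalizer (centralizer ({x} : Set Q) : Set Q) := by
  refine CfsgLib.Coprime.conjBy_eq_self_iff.1 (eq_of_le_of_card_ge ?_ (by rw [CfsgLib.Coprime.card_conjBy]))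
  rintro _ ⟨y, hy, rfl⟩
  exact mem_centralizer_singleton_iff.2 (mem_centralizer_of_scaled hxo hn (mem_centralizer_singleton_iff.1 hy))

/-- The case of a factor covered by the centraliser of a Sylow subgroup of the kernel. -/
theorem caseA (B : Pairing Q) {K L R : Subgroup Q} (F : Factor r K L) (hR : IsSylowIn r R K)
    (hcov : L ≤ (L ⊓ centralizer (R : Set Q)) ⊔ K) : False := by
  classical
  haveI := F.normal
  set L₀ := L ⊓ centralizer (R : Set Q) with hL₀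
  have hL₀L : L₀ ≤ L := inf_le_left
  have hcR : ∀ g ∈ L₀, ∀ k ∈ R, g * k = k * g := fun g hg k hk => (mem_centralizer_iff.1 hg.2 k hk).symm
  have hKcent : ∀ T : Subgroup Q, IsPGroup r T → T ≤ L₀ → ∀ k ∈ T, k ∈ K → ∀ g ∈ L₀, g * k = k * g := by
    intro T hT hTL k hk hkK g hg
    refine hcR g hg k ?_
    set U := zpowers k
    have hU : IsPGroup r U := hT.to_le (zpowers_le.2 hk)
    have hUR : U ≤ normalizer (R : Set Q) :=
      zpowers_le.2 (CfsgLib.Coprime.centralizer_le_normalizer_self R (hTL hk).2)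
    have h := sylowIn_eq_of_le hR (IsPGroup.to_sup_of_normal_right' hU hR.isPGroup hUR) le_sup_right
      (sup_le (zpowers_le.2 hkK) hR.1)
    exact h ▸ mem_sup_left (mem_zpowers k)
  have hab : ∀ T : Subgroup Q, IsPGroup r T → T ≤ L₀ → ∀ a ∈ T, ∀ b ∈ T, a * b = b * a := by
    intro T hT hTL a ha b hb
    obtain ⟨c, hc, hdec⟩ := F.cyc T (hTL.trans hL₀L) hT
    obtain ⟨i, hi⟩ := hdec a ha
    obtain ⟨j, hj⟩ := hdec b hb
    set k := (c ^ i)⁻¹ * a with hk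
    set k' := (c ^ j)⁻¹ * b with hk'
    have hkT : k ∈ T := T.mul_mem (T.inv_mem (T.zpow_mem hc i)) ha
    have hkT' : k' ∈ T := T.mul_mem (T.inv_mem (T.zpow_mem hc j)) hb
    have e1 : ∀ g ∈ T, Commute g k := fun g hg => hKcent T hT hTL k hkT hi g (hTL hg)
    have e2 : ∀ g ∈ T, Commute g k' := fun g hg => hKcent T hT hTL k' hkT' hj g (hTL hg)
    rw [show a = c ^ i * k by rw [hk, mul_inv_cancel_left], show b = c ^ j * k' by rw [hk', mul_inv_cancel_left]]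
    exact (((Commute.zpow_zpow_self c i j).mul_right (e2 _ (T.zpow_mem hc i))).mul_left
      ((e1 _ (T.zpow_mem hc j)).symm.mul_right (e2 _ hkT))).eq
  -- the commutator map of an element on an abelian subgroup
  have hemap : ∀ (T : Subgroup Q), IsPGroup r T → T ≤ L₀ → ∀ g ∈ L₀, (∀ p ∈ T, g * p * g⁻¹ ∈ T) →
      ∃ c ∈ T, (∀ p ∈ T, g * p * g⁻¹ * p⁻¹ ∈ zpowers (g * c * g⁻¹ * c⁻¹)) := by
    intro T hT hTL g hg hgT
    obtain ⟨c, hc, hdec⟩ := F.cyc T (hTL.trans hL₀L) hT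
    refine ⟨c, hc, fun p hp => ?_⟩
    obtain ⟨i, hi⟩ := hdec p hp
    set k := (c ^ i)⁻¹ * p with hk
    have hkT : k ∈ T := T.mul_mem (T.inv_mem (T.zpow_mem hc i)) hp
    have hgk : g * k = k * g := hKcent T hT hTL k hkT hi g hg
    refine ⟨i, ?_⟩
    show (g * c * g⁻¹ * c⁻¹) ^ i = _
    have hcc : Commute (g * c * g⁻¹) c⁻¹ := (Commute.inv_right (hab T hT hTL _ (hgT c hc) c hc))
    rw [hcc.mul_zpow, conj_zpow, inv_zpow, show p = c ^ i * k by rw [hk, mul_inv_cancel_left]]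
    have h1 : k⁻¹ * (c ^ i)⁻¹ = (c ^ i)⁻¹ * k⁻¹ := by
      rw [← mul_inv_rev, ← mul_inv_rev, hab T hT hTL _ (T.zpow_mem hc i) _ hkT]
    rw [mul_inv_rev, show g * (c ^ i * k) * g⁻¹ = g * c ^ i * g⁻¹ * k by
      rw [show g * (c ^ i * k) * g⁻¹ = g * c ^ i * (k * g⁻¹) by group,
        ((Commute.inv_left hgk).symm.eq : k * g⁻¹ = g⁻¹ * k)]
      group]
    group
  obtain ⟨P₁, hP₁, -⟩ := exists_sylowIn_ge (IsPGroup.of_bot (G := Q) (p := r)) (bot_le : (⊥ : Subgroup Q) ≤ L₀)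
  have hP₁r := hP₁.isPGroup
  -- an element of order prime to `r` acting non-trivially
  obtain ⟨n, hnL, hnP, hnr, g, hg, hng⟩ : ∃ n ∈ L₀, n ∈ normalizer (P₁ : Set Q) ∧ (orderOf n).Coprime r ∧
      ∃ g ∈ P₁, n * g * n⁻¹ ≠ g := by
    by_contra hno
    push Not at hno
    obtain ⟨M, hML, hMn, hMr, hMi⟩ := exists_compl hP₁ fun m hm hmP g hg =>
      commute_of_normalizer hP₁ (hab P₁ hP₁r hP₁.1) hno hm hmP hg
    have hKn : normalizer (K : Set Q) = ⊤ := normalizer_eq_top K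
    have hMKn : L₀ ≤ normalizer ((M ⊔ K : Subgroup Q) : Set Q) := fun m hm => by
      rw [← CfsgLib.Coprime.conjBy_eq_self_iff, conjBy, Subgroup.map_sup]
      exact congrArg₂ (· ⊔ ·) (CfsgLib.Coprime.conjBy_eq_self_iff.2 (hMn hm))
        (CfsgLib.Coprime.conjBy_eq_self_iff.2 (hKn ▸ mem_top m))
    rcases F.simple (M ⊔ K) le_sup_right (sup_le (hML.trans hL₀L) F.le) (hcov.trans (sup_le hMKn
      ((le_sup_right : K ≤ M ⊔ K).trans le_normalizer)))
      with hM | hM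
    · -- the factor would be an `r`-group
      have hle : M ≤ K := hM ▸ le_sup_left
      have h1 : K.relIndex L = K.relIndex L₀ := by
        conv_lhs => rw [show L = L₀ ⊔ K from le_antisymm hcov (sup_le hL₀L F.le)]
        exact relIndex_sup_right _ _
      have h2 : K.relIndex L₀ ∣ M.relIndex L₀ := relIndex_dvd_of_le_left _ hle
      rw [hMi, ← h1] at h2
      obtain ⟨j, hj⟩ := hP₁r.exists_card_eq
      rw [hj] at h2
      obtain ⟨i, -, hi⟩ := (Nat.dvd_prime_pow hr.out).1 h2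
      exact F.notp i hi
    · refine hMr (F.rdvd.trans ?_)
      rw [← hM, relIndex_sup_right]
      exact relIndex_dvd_card _ _
  have hnT : ∀ p ∈ P₁, n * p * n⁻¹ ∈ P₁ := fun p hp => (mem_normalizer_iff.1 hnP p).1 hp
  obtain ⟨c, hc, himg⟩ := hemap P₁ hP₁r hP₁.1 n hnL hnT
  obtain ⟨x, hxP, hxo, a, ha', hxa⟩ := exists_scaled hP₁r hnT hnr hc hg hng himg
  have ha : x ^ a = n * x * n⁻¹ := ha'.symm
  have hxne : n * x * n⁻¹ ≠ x := ha ▸ hxa
  have hxK : x ∉ K := fun hxK => hxne (mul_inv_eq_iff_eq_mul.2 (hKcent P₁ hP₁r hP₁.1 x hxP hxK n hnL))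
  -- the Sylow subgroup of the centraliser of `x`
  set Cx := centralizer ({x} : Set Q) with hCx
  have hmemCx : ∀ y, y ∈ Cx ↔ y * x = x * y := fun y => mem_centralizer_singleton_iff
  have hRC : R ≤ Cx := fun k hk => (hmemCx k).2 (hcR x (hP₁.1 hxP) k hk).symm
  obtain ⟨P, hP, hle⟩ := exists_sylowIn_ge (IsPGroup.to_sup_of_normal_right'
    (hP₁r.to_le (zpowers_le.2 hxP)) hR.isPGroup
    (zpowers_le.2 (CfsgLib.Coprime.centralizer_le_normalizer_self R (hP₁.1 hxP).2))) (sup_le (zpowers_le.2 ((hmemCx x).2 rfl)) hRC)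
  have hxPC : x ∈ P := hle (mem_sup_left (mem_zpowers x))
  have hPL : P ≤ normalizer (L : Set Q) := fun y hy => mem_normalizer_iff.2 fun q =>
    ⟨fun hq => F.stab x (hL₀L (hP₁.1 hxP)) hxK y ((hmemCx y).1 (hP.1 hy)) q hq, fun hq => by
      have := F.stab x (hL₀L (hP₁.1 hxP)) hxK y⁻¹ ((hmemCx _).1 (Cx.inv_mem (hP.1 hy))) _ hq
      simpa [mul_assoc] using this⟩
  have hPR : P ⊓ K = R := sylowIn_eq_of_le hR (hP.isPGroup.to_le inf_le_left)
    (le_inf (le_sup_right.trans hle) hR.1) inf_le_right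
  have hPnR : P ≤ normalizer (R : Set Q) := by
    rw [← hPR]
    exact CfsgLib.Coprime.inf_le_normalizer le_normalizer (by rw [normalizer_eq_top K]; exact le_top)
  have hPnL₀ : P ≤ normalizer (L₀ : Set Q) :=
    CfsgLib.Coprime.inf_le_normalizer hPL (hPnR.trans (CfsgLib.Coprime.normalizer_le_normalizer_centralizer R))
  set D := L₀ ⊓ Cx with hD
  set P₀ := P ⊓ L₀ with hP₀
  have hPM : IsSylowIn r P (Cx ⊓ normalizer (L₀ : Set Q)) := by
    obtain ⟨S, hS, hPS⟩ := exists_sylowIn_ge hP.isPGroup (le_inf hP.1 hPnL₀)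
    rwa [sylowIn_eq_of_le hP hS.isPGroup hPS (hS.1.trans inf_le_left)] at hS
  have hP₀D : IsSylowIn r P₀ D := by
    have h := sylowIn_inf hPM (N := D) (le_inf inf_le_right (inf_le_left.trans le_normalizer))
      (CfsgLib.Coprime.inf_le_normalizer inf_le_right (inf_le_left.trans le_normalizer))
    rwa [show P ⊓ D = P₀ from le_antisymm (le_inf inf_le_left (inf_le_right.trans inf_le_left))
      (le_inf inf_le_left (le_inf inf_le_right (inf_le_left.trans hP.1)))] at h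
  have hP₀L : IsSylowIn r P₀ L₀ := by
    refine sylowIn_of_card_le (hP.isPGroup.to_le inf_le_left) inf_le_right hP₁ ?_
    obtain ⟨S, hS, hP₁S⟩ := exists_sylowIn_ge (H := D) hP₁r (le_inf hP₁.1 fun y hy =>
      (hmemCx y).2 (hab P₁ hP₁r hP₁.1 y hy x hxP))
    rw [hP₀D.2, ← hS.2]
    exact card_le_of_le hP₁S
  -- adjust the acting element
  have hnCx : n ∈ normalizer (Cx : Set Q) := mem_normalizer_centralizer_of_scaled hxo ha'
  have hnD : n ∈ normalizer (D : Set Q) :=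
    CfsgLib.Coprime.inf_le_normalizer (A := zpowers n) (zpowers_le.2 (le_normalizer hnL)) (zpowers_le.2 hnCx)
      (mem_zpowers n)
  obtain ⟨c₁, hc₁, hc₁n⟩ := (hP₀D.conjBy hnD).exists_conj hP₀D
  set n₁ := c₁ * n with hn₁
  have hn₁P₀ : n₁ ∈ normalizer (P₀ : Set Q) := by
    rw [← CfsgLib.Coprime.conjBy_eq_self_iff, hn₁, ← CfsgLib.Coprime.conjBy_conjBy]
    exact hc₁n
  have hn₁L : n₁ ∈ L₀ := L₀.mul_mem hc₁.1 hnL
  have hn₁x : n₁ * x * n₁⁻¹ = x ^ a := by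
    rw [hn₁, show c₁ * n * x * (c₁ * n)⁻¹ = c₁ * (n * x * n⁻¹) * c₁⁻¹ by group, ← ha]
    exact mul_inv_eq_iff_eq_mul.2 ((show Commute c₁ x from (hmemCx c₁).1 hc₁.2).pow_right a).eq
  set N₀ := L₀ ⊓ normalizer (P₀ : Set Q) with hN₀
  have hPN₀ : P ≤ normalizer (N₀ : Set Q) := by
    have h : P ≤ normalizer (P₀ : Set Q) := CfsgLib.Coprime.inf_le_normalizer le_normalizer hPnL₀
    exact CfsgLib.Coprime.inf_le_normalizer hPnL₀ (h.trans le_normalizer)
  set Dx := N₀ ⊓ Cx with hDx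
  have hPDx : P ≤ normalizer (Dx : Set Q) :=
    CfsgLib.Coprime.inf_le_normalizer hPN₀ (hP.1.trans le_normalizer)
  set M := Dx ⊔ P with hM
  have hMC : M ≤ Cx := sup_le inf_le_right hP.1
  have hPMs : IsSylowIn r P M := by
    obtain ⟨S, hS, hPS⟩ := exists_sylowIn_ge hP.isPGroup (le_sup_right : P ≤ M)
    rwa [sylowIn_eq_of_le hP hS.isPGroup hPS (hS.1.trans hMC)] at hS
  have hn₁M : n₁ ∈ normalizer (M : Set Q) := by
    refine CfsgLib.Coprime.conjBy_eq_self_iff.1 (eq_of_le_of_card_ge ?_ (by rw [CfsgLib.Coprime.card_conjBy]))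
    have hCcl : ∀ y ∈ Cx, n₁ * y * n₁⁻¹ ∈ Cx := fun y hy =>
      (hmemCx _).2 (mem_centralizer_of_scaled hxo hn₁x ((hmemCx y).1 hy))
    rw [conjBy, hM, Subgroup.map_sup, sup_le_iff]
    constructor
    · rintro _ ⟨y, hy, rfl⟩
      exact mem_sup_left ⟨N₀.mul_mem (N₀.mul_mem ⟨hn₁L, hn₁P₀⟩ hy.1) (N₀.inv_mem ⟨hn₁L, hn₁P₀⟩), hCcl y hy.2⟩
    · rintro _ ⟨p, hp, rfl⟩
      show n₁ * p * n₁⁻¹ ∈ Dx ⊔ P
      have h1 : n₁ * p * n₁⁻¹ * p⁻¹ ∈ Dx := by
        refine ⟨?_, Cx.mul_mem (hCcl p (hP.1 hp)) (Cx.inv_mem (hP.1 hp))⟩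
        have hN : n₁ ∈ N₀ := ⟨hn₁L, hn₁P₀⟩
        rw [show n₁ * p * n₁⁻¹ * p⁻¹ = n₁ * (p * n₁⁻¹ * p⁻¹) by group]
        exact N₀.mul_mem hN ((mem_normalizer_iff.1 (hPN₀ hp) _).1 (N₀.inv_mem hN))
      rw [show n₁ * p * n₁⁻¹ = n₁ * p * n₁⁻¹ * p⁻¹ * p by group]
      exact mul_mem (mem_sup_left h1) (mem_sup_right hp)
  obtain ⟨m₀, hm₀, hm₀P⟩ := (hPMs.conjBy hn₁M).exists_conj hPMs
  obtain ⟨d, hd, p, hp, hdp⟩ := CfsgLib.Coprime.mem_sup_exists hPDx (M.inv_mem hm₀)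
  set l := d⁻¹ * n₁ with hl
  have hlP : l ∈ normalizer (P : Set Q) := by
    rw [← CfsgLib.Coprime.conjBy_eq_self_iff]
    have h1 : conjBy p⁻¹ (conjBy l P) = P := by
      rw [CfsgLib.Coprime.conjBy_conjBy, hl, show p⁻¹ * (d⁻¹ * n₁) = m₀ * n₁ by
        rw [← mul_assoc, ← mul_inv_rev, hdp, inv_inv], ← CfsgLib.Coprime.conjBy_conjBy]
      exact hm₀P
    have h2 := congrArg (conjBy p) h1
    rw [CfsgLib.Coprime.conjBy_conjBy p p⁻¹, mul_inv_cancel, CfsgLib.Coprime.conjBy_eq_self_iff.2 (le_normalizer hp)] at h2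
    rw [show conjBy (1 : Q) (conjBy l P) = conjBy l P by rw [CfsgLib.Coprime.conjBy_conjBy, one_mul]] at h2
    exact h2
  have hlL : l ∈ L₀ := L₀.mul_mem (L₀.inv_mem hd.1.1) hn₁L
  have hlx : l * x * l⁻¹ = x ^ a := by
    rw [hl, show d⁻¹ * n₁ * x * (d⁻¹ * n₁)⁻¹ = d⁻¹ * (n₁ * x * n₁⁻¹) * d by group, hn₁x]
    have : Commute d (x ^ a) := (show Commute d x from (hmemCx d).1 hd.2).pow_right a
    rw [mul_assoc, ← this.eq, inv_mul_cancel_left]
  have hlcl : ∀ y ∈ P, l * y * l⁻¹ ∈ P := fun y hy => (mem_normalizer_iff.1 hlP y).1 hy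
  have hlP₀ : ∀ y ∈ P₀, l * y * l⁻¹ ∈ P₀ := fun y hy =>
    ⟨hlcl y hy.1, L₀.mul_mem (L₀.mul_mem hlL hy.2) (L₀.inv_mem hlL)⟩
  obtain ⟨c₀, hc₀, himg₀⟩ := hemap P₀ (hP.isPGroup.to_le inf_le_left) inf_le_right l hlL hlP₀
  refine B.false_of_scaled hxo hlx hxa P hP.isPGroup (fun y hy => (hmemCx y).1 (hP.1 hy))
    (fun T hT hPT hTc => sylowIn_eq_of_le hP hT hPT fun y hy => (hmemCx y).2 (hTc y hy))
    hlcl P₀ inf_le_left (fun y hy => ⟨P.mul_mem (hlcl y hy) (P.inv_mem hy), ?_⟩)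
    (l * c₀ * l⁻¹ * c₀⁻¹) ?_ himg₀
  · rw [show l * y * l⁻¹ * y⁻¹ = l * (y * l⁻¹ * y⁻¹) by group]
    exact L₀.mul_mem hlL ((mem_normalizer_iff.1 (hPnL₀ hy) _).1 (L₀.inv_mem hlL))
  · have h1 := himg₀ x ⟨hxPC, hP₁.1 hxP⟩
    rw [hlx] at h1
    refine zpowers_le.2 h1 ?_
    have h2 : x ^ a * x⁻¹ ≠ 1 := fun h => hxa (mul_inv_eq_one.1 h)
    have h3 : x ^ a * x⁻¹ ∈ zpowers x := mul_mem (pow_mem (mem_zpowers x) a) (inv_mem (mem_zpowers x))
    have h4 : zpowers (x ^ a * x⁻¹) = zpowers x := by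
      refine eq_of_le_of_card_ge (zpowers_le.2 h3) ?_
      rw [Nat.card_zpowers, Nat.card_zpowers]
      have h5 : orderOf (x ^ a * x⁻¹) ∣ r := by
        rw [← hxo]
        exact orderOf_dvd_of_mem_zpowers h3
      rw [((Nat.dvd_prime hr.out).1 h5).resolve_left fun e => h2 (orderOf_eq_one_iff.1 e), hxo]
    exact h4.ge (mem_zpowers x)

end CfsgLib.Char.SmallRamified
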