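import Cfsg.Agent.Lib.Char.SmallRamified.Arith
import Cfsg.Agent.Lib.Char.SmallRamified.Eight
import Cfsg.Agent.Lib.Classical.SL2Sylow
import Cfsg.Agent.Lib.Classical.ProjLine
import Cfsg.Agent.Lib.Lie.SylowCyclic

/-!
# A prime with cyclic Sylow subgroups for the simple groups in question
-/

set_option autoImplicit false
set_option linter.style.haveILetI false
set_option linter.unusedSectionVars false

namespace CfsgLib.Char.SmallRamified

open Subgroup

universe u

/-- A useful odd prime. -/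
def Good (S : Type u) [Group S] : Prop :=
  ∃ r : ℕ, r.Prime ∧ r ≠ 2 ∧ r ∣ Nat.card S ∧ (∀ T : Sylow r S, IsCyclic (T : Subgroup S)) ∧
    NotSmall (Nat.card S) r

theorem Good.congr {S : Type u} [Group S] [Finite S] {T : Type*} [Group T] (h : Good T) (e : S ≃* T) : Good S := by
  haveI : Finite T := Finite.of_equiv S e.toEquiv
  obtain ⟨r, hr, h2, hd, hc, hn⟩ := h
  haveI := Fact.mk hr
  rw [← Nat.card_congr e.toEquiv] at hd hn
  refine ⟨r, hr, h2, hd, fun P => ?_, hn⟩
  obtain ⟨R, hR⟩ := (P.2.map e.toMonoidHom).exists_le_sylow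
  haveI := hc R
  let f : (P : Subgroup S) →* (R : Subgroup T) :=
    (e.toMonoidHom.comp (P : Subgroup S).subtype).codRestrict _ fun x => hR (mem_map_of_mem _ x.2)
  exact isCyclic_of_injective f fun x y hxy => Subtype.ext (e.injective (congrArg Subtype.val hxy))

theorem psl_sylow_cyclic {F : Type} [Field F] [Fintype F] {p : ℕ} [Fact p.Prime] [CharP F p] {r : ℕ}
    [Fact r.Prime] (hr : r ≠ 2) (hrp : r ≠ p)
    (T : Sylow r (Matrix.ProjectiveSpecialLinearGroup (Fin 2) F)) :
    IsCyclic (T : Subgroup (Matrix.ProjectiveSpecialLinearGroup (Fin 2) F)) := by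
  obtain ⟨R, rfl⟩ := Sylow.mapSurjective_surjective
    (QuotientGroup.mk'_surjective (Subgroup.center (Matrix.SpecialLinearGroup (Fin 2) F))) r T
  haveI := CfsgLib.Classical.sylow_odd_cyclic p r hr hrp R
  exact isCyclic_of_surjective
    ((QuotientGroup.mk' (Subgroup.center (Matrix.SpecialLinearGroup (Fin 2) F))).subgroupMap
      (R : Subgroup (Matrix.SpecialLinearGroup (Fin 2) F)))
    (MonoidHom.subgroupMap_surjective _ _)

theorem good_linear {F : Type} [Field F] [Fintype F] (hq : 4 ≤ Fintype.card F) :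
    Good (Matrix.ProjectiveSpecialLinearGroup (Fin 2) F) := by
  classical
  obtain ⟨p, hch⟩ := CharP.exists F
  haveI := hch
  obtain ⟨n, hp, hn⟩ := FiniteField.card F p
  haveI := Fact.mk hp
  have h := CfsgLib.Classical.card_psl2 (F := F)
  rw [hn] at h hq
  by_cases h3 : p = 3
  · subst h3
    have hf : 2 ≤ (n : ℕ) := by
      by_contra hlt
      have : (n : ℕ) = 1 := by have := n.pos; omega
      rw [this] at hq
      norm_num at hq
    have hodd : 3 ^ (n : ℕ) % 2 = 1 := by rw [Nat.pow_mod]; norm_num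
    rw [Nat.gcd_eq_left (show 2 ∣ 3 ^ (n : ℕ) - 1 by omega)] at h
    obtain ⟨r, hr, h2, hr3, hd, hns⟩ := exists_linear_nine hf h
    haveI := Fact.mk hr
    exact ⟨r, hr, h2, hd, psl_sylow_cyclic (p := 3) h2 hr3, hns⟩
  · have hodd : p = 2 → Nat.gcd 2 (p ^ (n : ℕ) - 1) = 1 := by
      rintro rfl
      refine (Nat.prime_two.coprime_iff_not_dvd.2 fun hd => ?_).gcd_eq_one
      have h1 : 2 ∣ 2 ^ (n : ℕ) := dvd_pow_self 2 n.ne_zero
      omega
    obtain ⟨hd, hns⟩ := linear_three hp h3 hq (Nat.gcd_dvd_left _ _) hodd h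
    haveI : Fact (Nat.Prime 3) := ⟨Nat.prime_three⟩
    exact ⟨3, Nat.prime_three, by norm_num, hd, psl_sylow_cyclic (p := p) (by norm_num) (Ne.symm h3), hns⟩

theorem isCyclic_of_factorization_one {S : Type u} [Group S] [Finite S] {r : ℕ} [Fact r.Prime]
    (h : (Nat.card S).factorization r = 1) (T : Sylow r S) : IsCyclic (T : Subgroup S) :=
  isCyclic_of_prime_card (p := r) (by rw [T.card_eq_multiplicity, h, pow_one])

theorem factorization_one {N r : ℕ} (hr : r.Prime) (hN : N ≠ 0) (h1 : r ∣ N) (h2 : ¬ r ^ 2 ∣ N) :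
    N.factorization r = 1 := by
  have := hr.factorization_pos_of_dvd hN h1
  rw [hr.pow_dvd_iff_le_factorization hN] at h2
  omega

theorem good_alt_seven : Good (alternatingGroup (Fin 7)) := by
  have hc : Nat.card (alternatingGroup (Fin 7)) = 2520 := by
    rw [nat_card_alternatingGroup]; simp [Nat.card_eq_fintype_card, Nat.factorial]
  haveI : Fact (Nat.Prime 5) := ⟨by norm_num⟩
  refine ⟨5, by norm_num, by norm_num, by rw [hc]; norm_num, fun T => isCyclic_of_factorization_one ?_ T, ?_⟩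
  · rw [hc]; exact factorization_one (by norm_num) (by norm_num) (by norm_num) (by norm_num)
  · exact notSmall_of (d := 7) (by rw [hc]; norm_num) (by norm_num) (by decide)

theorem good_janko {S : Type u} [Group S] [Finite S] (h : Cfsg.IsJ1 S) : Good S := by
  haveI : Fact (Nat.Prime 3) := ⟨Nat.prime_three⟩
  refine ⟨3, Nat.prime_three, by norm_num, by rw [h.2]; norm_num, fun T => isCyclic_of_factorization_one ?_ T, ?_⟩
  · rw [h.2]; exact factorization_one (by norm_num) (by norm_num) (by norm_num) (by norm_num)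
  · exact notSmall_three_of_prime (p := 5) (by norm_num) (by rw [h.2]; norm_num) (by norm_num) (by norm_num) (by norm_num)

theorem good_reeForm {S : Type u} [Group S] [Finite S] [IsSimpleGroup S] (hab : CfsgLib.Walter.AbTwo S)
    (h : CfsgLib.Walter.ReeForm S) : Good S := by
  classical
  obtain ⟨-, t, ht, F, iF, iF', hF, ⟨e⟩⟩ := h
  have h3 : 3 ≤ Fintype.card F := by
    rcases hF with h | ⟨m, -, h⟩
    · omega
    · rw [h, pow_succ]
      have : 0 < 3 ^ (2 * m) := pow_pos (by norm_num) _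
      omega
  rcases Cfsg.Agent.S0343.result hab h3 t ht ⟨e⟩ with ⟨m, hm, hFm, hc⟩ | ⟨-, hJ⟩
  swap
  · exact good_janko hJ
  obtain ⟨r, hr, h2, hr3, hdq, hnc, hn1, hns⟩ := exists_ree hm hc
  haveI := Fact.mk hr
  haveI : Fact (Nat.Prime 3) := ⟨Nat.prime_three⟩
  haveI : CharP F 3 := charP_of_card_eq_prime_pow hFm
  set q := 3 ^ (2 * m + 1) with hq
  refine ⟨r, hr, h2, hc ▸ hdq.mul_left _, fun T => ?_, hns⟩
  obtain ⟨R⟩ : Nonempty (Sylow r (Matrix.ProjectiveSpecialLinearGroup (Fin 2) F)) := inferInstance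
  haveI := psl_sylow_cyclic (p := 3) h2 hr3 R
  obtain ⟨g, hg⟩ := IsCyclic.exists_ofOrder_eq_natCard (α := (R : Subgroup (Matrix.ProjectiveSpecialLinearGroup (Fin 2) F)))
  have h27 : 27 ≤ q := le_trans (by norm_num) (Nat.pow_le_pow_right (show 0 < 3 by norm_num) (show 3 ≤ 2 * m + 1 by omega))
  have hq2 : q % 2 = 1 := by rw [hq, Nat.pow_mod]; norm_num
  have hcL := CfsgLib.Classical.card_psl2 (F := F)
  rw [hFm, Nat.gcd_eq_left (show 2 ∣ q - 1 by omega)] at hcL
  have hnq : ¬ r ∣ q := fun h => hr3 ((Nat.prime_dvd_prime_iff_eq hr Nat.prime_three).1 (hr.dvd_of_dvd_pow h))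
  have hL0 : Nat.card (Matrix.ProjectiveSpecialLinearGroup (Fin 2) F) ≠ 0 := Nat.card_pos.ne'
  have hv : (Nat.card S).factorization r =
      (Nat.card (Matrix.ProjectiveSpecialLinearGroup (Fin 2) F)).factorization r := by
    have e1 := congrArg (fun N => N.factorization r) hcL
    simp only [Nat.factorization_mul two_ne_zero hL0, Nat.factorization_mul (show q ≠ 0 by omega)
      (Nat.mul_ne_zero (show q - 1 ≠ 0 by omega) (show q + 1 ≠ 0 by omega)),
      Nat.factorization_mul (show q - 1 ≠ 0 by omega) (show q + 1 ≠ 0 by omega), Finsupp.add_apply] at e1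
    rw [hc, Nat.factorization_mul (mul_ne_zero (pow_ne_zero 3 (show q ≠ 0 by omega)) (by omega)) (show q - 1 ≠ 0 by omega),
      Nat.factorization_mul (pow_ne_zero 3 (show q ≠ 0 by omega)) (by omega), Finsupp.add_apply, Finsupp.add_apply,
      Nat.factorization_eq_zero_of_not_dvd (fun h => hnq (hr.dvd_of_dvd_pow h)),
      Nat.factorization_eq_zero_of_not_dvd hnc]
    rw [Nat.factorization_eq_zero_of_not_dvd hnq, Nat.factorization_eq_zero_of_not_dvd hn1,
      Nat.factorization_eq_zero_of_not_dvd (fun h => h2 ((Nat.prime_dvd_prime_iff_eq hr Nat.prime_two).1 h))] at e1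
    omega
  refine CfsgLib.Lie.SylowCyclic.isCyclic_sylow (g := ((e.symm (1, (g : _))) : S)) ?_ T
  rw [Subgroup.orderOf_coe, MulEquiv.orderOf_eq, Prod.orderOf_mk, orderOf_one, Nat.lcm_one_left,
    Subgroup.orderOf_coe, hg, R.card_eq_multiplicity, hv]

/-- Simple groups with abelian Sylow `2`-subgroups, or with Sylow `2`-subgroups of order eight. -/
theorem good_simple {S : Type u} [Group S] [Finite S] [IsSimpleGroup S] (hna : ¬ IsMulCommutative S)
    (T : Sylow 2 S) (h : IsMulCommutative (T : Subgroup S) ∨ Nat.card (T : Subgroup S) = 8) : Good S := by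
  by_cases hab : IsMulCommutative (T : Subgroup S)
  · have hab2 := CfsgLib.Walter.abTwo_of_sylow T hab
    rcases CfsgLib.Walter.classified S inferInstance hna hab2 with ⟨F, iF, iF', hF, ⟨e⟩⟩ | hr
    · refine (good_linear (F := F) ?_).congr e
      rcases hF with ⟨n, hn, hF⟩ | ⟨h5, -⟩
      · rw [hF]; exact le_trans (by norm_num) (Nat.pow_le_pow_right (show 0 < 2 by norm_num) hn)
      · omega
    · exact good_reeForm hab2 hr
  · rcases sylow_eight_nonabelian hna T (h.resolve_left hab) hab with ⟨F, iF, iF', hF, ⟨e⟩⟩ | ⟨⟨e⟩⟩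
    · exact (good_linear (F := F) (by omega)).congr e
    · exact good_alt_seven.congr e

end CfsgLib.Char.SmallRamified
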