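import Cfsg.Agent.Lib.Walter.Consumers.SylowOrderEight
import Cfsg.Agent.Lib.Coprime.Action

/-!
# A group of order sixteen with an elementary abelian subgroup of order eight and an outer involution
-/

set_option autoImplicit false
set_option linter.style.haveILetI false
set_option linter.unusedSectionVars false

namespace CfsgLib.Char.SmallRamified

open Subgroup

universe u

variable {P : Type u} [Group P] [Finite P]

theorem exists_fixed {E : Subgroup P} [E.Normal] (hsq : ∀ e ∈ E, e * e = 1) (h8 : Nat.card E = 8) {t : P}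
    (ht : t * t = 1) (c : P) : ∃ z ∈ E, t * z = z * t ∧ z ≠ 1 ∧ z ≠ c := by
  classical
  have hti : t⁻¹ = t := inv_eq_of_mul_eq_one_right ht
  have hE : ∀ b ∈ E, t * b * t ∈ E := fun b hb => by
    have h := (inferInstance : E.Normal).conj_mem b hb t
    rwa [hti] at h
  have hcomm : ∀ a ∈ E, ∀ b ∈ E, a * b = b * a := by
    intro a ha b hb
    have h := hsq (a * b) (E.mul_mem ha hb)
    rw [mul_eq_one_iff_eq_inv, mul_inv_rev, inv_eq_of_mul_eq_one_right (hsq a ha),
      inv_eq_of_mul_eq_one_right (hsq b hb)] at h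
    exact h
  let δ : E →* E := MonoidHom.mk' (fun b => ⟨t * b * t * b, E.mul_mem (hE b b.2) b.2⟩) fun a b => Subtype.ext (by
    show t * ((a : P) * b) * t * ((a : P) * b) = t * a * t * a * (t * b * t * b)
    calc t * ((a : P) * b) * t * ((a : P) * b) = t * a * (t * t) * b * t * ((a : P) * b) := by
          rw [ht, mul_one]; group
      _ = t * a * t * (t * b * t * a) * b := by group
      _ = t * a * t * (a * (t * b * t)) * b := by rw [hcomm a a.2 _ (hE b b.2)]
      _ = _ := by group)
  have hfix : ∀ b : E, δ b = 1 ↔ t * b = b * t := by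
    intro b
    rw [Subtype.ext_iff]
    show t * (b : P) * t * b = 1 ↔ _
    rw [mul_eq_one_iff_eq_inv, inv_eq_of_mul_eq_one_right (hsq b b.2), ← eq_mul_inv_iff_mul_eq, hti]
  have hle : δ.range ≤ δ.ker := by
    rintro _ ⟨b, rfl⟩
    rw [MonoidHom.mem_ker, hfix]
    show t * (t * (b : P) * t * b) = t * b * t * b * t
    calc t * (t * (b : P) * t * b) = t * t * b * t * b := by group
      _ = b * t * b := by rw [ht, one_mul]
      _ = b * (t * b * t) * t := by rw [mul_assoc, mul_assoc, mul_assoc, mul_assoc, ht, mul_one]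
      _ = t * b * t * b * t := by rw [hcomm b b.2 _ (hE b b.2)]
  have hmul := δ.ker.card_mul_index
  rw [Subgroup.index_ker, h8] at hmul
  have h1 := Subgroup.card_le_of_le hle
  have h3 : 3 ≤ Nat.card δ.ker := by nlinarith
  by_contra hno
  push Not at hno
  have hsub : (δ.ker.map E.subtype : Set P) ⊆ {1, c} := by
    rintro _ ⟨b, hb, rfl⟩
    by_cases hb1 : (b : P) = 1
    · exact Or.inl hb1
    · exact Or.inr (hno b b.2 ((hfix b).1 (MonoidHom.mem_ker.1 hb)) hb1)
  have h4 := Set.ncard_le_ncard hsub (Set.toFinite _)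
  have h5 : ({1, c} : Set P).ncard ≤ 2 := (Set.ncard_insert_le _ _).trans (by rw [Set.ncard_singleton])
  rw [← Nat.card_coe_set_eq, SetLike.coe_sort_coe, card_map_of_injective E.subtype_injective] at h4
  omega

/-- The group is the product of a group of order two and a dihedral group of order eight. -/
theorem iso_two_dihedral (h16 : Nat.card P = 16) (hnc : ¬ IsMulCommutative P) {E : Subgroup P}
    (hsq : ∀ e ∈ E, e * e = 1) (h8 : Nat.card E = 8) {t : P} (htE : t ∉ E) (ht : t * t = 1) :
    Nonempty (P ≃* Multiplicative (ZMod 2) × DihedralGroup 4) := by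
  classical
  have hidx : E.index = 2 := by
    have := E.card_mul_index
    rw [h8, h16] at this
    omega
  haveI : E.Normal := Subgroup.normal_of_index_eq_two hidx
  have hord : ∀ {w : P}, w * w = 1 → w ≠ 1 → orderOf w = 2 := fun hw hw1 =>
    orderOf_eq_prime (by rw [pow_two]; exact hw) hw1
  have hti : t⁻¹ = t := inv_eq_of_mul_eq_one_right ht
  have hcommE : ∀ a ∈ E, ∀ b ∈ E, a * b = b * a := by
    intro a ha b hb
    have h := hsq (a * b) (E.mul_mem ha hb)
    rw [mul_eq_one_iff_eq_inv, mul_inv_rev, inv_eq_of_mul_eq_one_right (hsq a ha),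
      inv_eq_of_mul_eq_one_right (hsq b hb)] at h
    exact h
  have hdec : ∀ y : P, y ∉ E → t * y ∈ E := fun y hy =>
    (Subgroup.mul_mem_iff_of_index_two hidx).2 (iff_of_false htE hy)
  obtain ⟨e, he, hte⟩ : ∃ e ∈ E, t * e ≠ e * t := by
    by_contra h
    push Not at h
    refine hnc (isMulCommutative_iff.2 ?_)
    have hE : ∀ a ∈ E, ∀ y : P, Commute a y := by
      intro a ha y
      by_cases hy : y ∈ E
      · exact hcommE a ha y hy
      · rw [show y = t⁻¹ * (t * y) by group]
        exact (Commute.inv_right (show Commute a t from (h a ha).symm)).mul_right (hcommE a ha _ (hdec y hy))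
    intro a b
    by_cases ha : a ∈ E
    · exact hE a ha b
    · rw [show a = t⁻¹ * (t * a) by group]
      have h1 : Commute t b := by
        by_cases hb : b ∈ E
        · exact (hE b hb t).symm
        · rw [show b = t⁻¹ * (t * b) by group]
          exact (Commute.refl t).inv_right.mul_right (hE _ (hdec b hb) t).symm
      exact (h1.inv_left.mul_left (hE _ (hdec a ha) b)).eq
  have he1 : e ≠ 1 := fun h => hte (by rw [h, mul_one, one_mul])
  set r := t * e with hr
  have hrE : r ∉ E := fun h => htE ((E.mul_mem_cancel_right he).1 h)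
  have hr2E : r * r ∈ E := Subgroup.mul_self_mem_of_index_two hidx r
  have hnc' : ¬ Commute t r := fun h => hte (by
    have h2 : t * (t * e) = t * e * t := h.eq
    rw [mul_assoc] at h2
    exact mul_left_cancel h2)
  have hr4 : orderOf r = 4 := by
    have h : orderOf r = 2 ^ (1 + 1) := by
      refine orderOf_eq_prime_pow (fun h => hte ?_) ?_
      · rw [pow_one, pow_two, mul_eq_one_iff_eq_inv, hr, mul_inv_rev, hti,
          inv_eq_of_mul_eq_one_right (hsq e he)] at h
        exact h
      · rw [show (2 : ℕ) ^ (1 + 1) = 2 * 2 from rfl, pow_mul, pow_two, pow_two]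
        exact hsq _ hr2E
    exact h
  have hinv : t * r * t⁻¹ = r⁻¹ := by
    rw [hr, mul_inv_rev, hti, inv_eq_of_mul_eq_one_right (hsq e he), ← mul_assoc, ht, one_mul]
  have htr : t ∈ normalizer (zpowers r : Set P) := by
    refine mem_normalizer_iff.2 fun q => ?_
    have key : ∀ q ∈ zpowers r, t * q * t⁻¹ ∈ zpowers r := by
      rintro q ⟨i, rfl⟩
      show t * r ^ i * t⁻¹ ∈ zpowers r
      rw [← conj_zpow, hinv]
      exact zpow_mem (inv_mem (mem_zpowers r)) i
    refine ⟨key q, fun h => ?_⟩
    have := key _ h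
    rwa [hti, show t * (t * q * t) * t = (t * t) * q * (t * t) by group, ht, one_mul, mul_one] at this
  set D := zpowers r ⊔ zpowers t with hD
  have htD : t ∈ D := mem_sup_right (mem_zpowers t)
  have heD : e ∈ D := by
    rw [show e = t * r by rw [hr, ← mul_assoc, ht, one_mul]]
    exact D.mul_mem htD (mem_sup_left (mem_zpowers r))
  have htord : orderOf t = 2 := hord ht fun h => htE (h ▸ E.one_mem)
  have hzt : Nat.card (zpowers t) = 2 := by rw [Nat.card_zpowers, htord]
  have hn : zpowers t ≤ normalizer (zpowers r : Set P) := zpowers_le.2 htr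
  have hD8 : Nat.card D = 8 := by
    have hinf : zpowers r ⊓ zpowers t = ⊥ := by
      rcases (Nat.dvd_prime Nat.prime_two).1 (hzt ▸ card_dvd_of_le
        (inf_le_right : zpowers r ⊓ zpowers t ≤ zpowers t)) with h | h
      · exact Subgroup.card_eq_one.1 h
      · have := eq_of_le_of_card_ge inf_le_right (le_of_eq (hzt.trans h.symm))
        obtain ⟨i, hi⟩ := mem_zpowers_iff.1 (this.ge (mem_zpowers t)).1
        exact absurd (hi ▸ Commute.zpow_self r i) hnc'
    have hrel : (zpowers r).relIndex D = (zpowers r).relIndex (zpowers t) := by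
      haveI : ((zpowers r).subgroupOf D).Normal :=
        Subgroup.normal_subgroupOf_of_le_normalizer (sup_le le_normalizer hn)
      have hrD : zpowers r ≤ D := le_sup_left
      have htD' : zpowers t ≤ D := le_sup_right
      rw [← relIndex_subgroupOf (K := zpowers t) htD', ← relIndex_sup_left (H := (zpowers t).subgroupOf D) (K := (zpowers r).subgroupOf D),
        ← subgroupOf_sup hrD htD', ← hD,
        subgroupOf_self, relIndex_top_right]
      rfl
    have h1 := relIndex_mul_relIndex (⊥ : Subgroup P) (zpowers r) D bot_le le_sup_left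
    rw [relIndex_bot_left, relIndex_bot_left, Nat.card_zpowers, hr4,
      hrel, ← inf_relIndex_right, hinf, relIndex_bot_left, hzt] at h1
    omega
  have hDna : ¬ IsMulCommutative D := fun h => hnc' (congrArg Subtype.val
    (isMulCommutative_iff.1 h ⟨t, htD⟩ ⟨r, mem_sup_left (mem_zpowers r)⟩))
  obtain ⟨φ⟩ := CfsgLib.Walter.Consumers.dihedral_of_eight hD8 hDna
    (s := ⟨t, htD⟩) (t := ⟨e, heD⟩)
    (by rw [orderOf_mk]; exact htord)
    (by rw [orderOf_mk]; exact hord (hsq e he) he1)
    (fun h => htE (by rw [show t = e from congrArg Subtype.val h]; exact he))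
  obtain ⟨z, hzE, hzt', hz1, hzc'⟩ := exists_fixed hsq h8 ht (r ^ (2 : ℤ))
  have hzr : Commute z r := (show Commute z t from hzt'.symm).mul_right (hcommE z hzE e he)
  have hzD : z ∉ D := by
    intro h
    obtain ⟨a, ha, b, hb, hab⟩ := CfsgLib.Coprime.mem_sup_exists hn h
    obtain ⟨i, rfl⟩ := mem_zpowers_iff.1 ha
    obtain ⟨j, rfl⟩ := mem_zpowers_iff.1 hb
    have ht2 : t ^ (2 : ℤ) = 1 := by rw [zpow_ofNat, pow_two, ht]
    rcases Int.emod_two_eq_zero_or_one j with hj | hj
    · rw [← Int.mul_ediv_add_emod j 2, hj, add_zero, zpow_mul, ht2, one_zpow, mul_one] at hab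
      have hr4' : r ^ (4 : ℤ) = 1 := by rw [zpow_ofNat, ← hr4, pow_orderOf_eq_one]
      rw [← Int.mul_ediv_add_emod i 4, zpow_add, zpow_mul, hr4', one_zpow, one_mul] at hab
      rcases (show i % 4 = 0 ∨ i % 4 = 1 ∨ i % 4 = 2 ∨ i % 4 = 3 by omega) with h | h | h | h <;> rw [h] at hab
      · exact hz1 (by rw [← hab, zpow_zero])
      · exact hrE (by rw [← zpow_one r, hab]; exact hzE)
      · exact hzc' hab.symm
      · refine hrE ?_
        have h1 : r ^ (3 : ℤ) * r = 1 := by rw [← zpow_add_one]; exact hr4'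
        rw [hab] at h1
        rw [eq_inv_of_mul_eq_one_right h1]
        exact E.inv_mem hzE
    · rw [← Int.mul_ediv_add_emod j 2, hj, zpow_add, zpow_mul, ht2, one_zpow, one_mul, zpow_one] at hab
      refine hnc' ?_
      rw [show t = (r ^ i)⁻¹ * z by rw [← hab, inv_mul_cancel_left]]
      exact ((Commute.zpow_self r i).inv_left.mul_left hzr)
  have hzc : ∀ y ∈ D, Commute z y := by
    have h0 : D ≤ centralizer ({z} : Set P) := sup_le
      (zpowers_le.2 (mem_centralizer_singleton_iff.2 hzr.symm.eq))
      (zpowers_le.2 (mem_centralizer_singleton_iff.2 hzt'))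
    exact fun y hy => (mem_centralizer_singleton_iff.1 (h0 hy)).symm
  let zh : Multiplicative (ZMod 2) →* P :=
    { toFun := fun a => if a = 1 then 1 else z
      map_one' := if_pos rfl
      map_mul' := fun a b => by
        have hall : ∀ a b : Multiplicative (ZMod 2), (a = 1 ∧ a * b = b) ∨ (b = 1 ∧ a * b = a) ∨
            (a ≠ 1 ∧ b ≠ 1 ∧ a * b = 1) := by decide
        rcases hall a b with ⟨h, h'⟩ | ⟨h, h'⟩ | ⟨h, h', h''⟩
        · rw [h', if_pos h, one_mul]
        · rw [h', if_pos h, mul_one]
        · rw [h'', if_pos rfl, if_neg h, if_neg h', hsq z hzE] }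
  let dh : DihedralGroup 4 →* P := D.subtype.comp φ.symm.toMonoidHom
  let f : Multiplicative (ZMod 2) × DihedralGroup 4 →* P := zh.noncommCoprod dh fun a b => by
    show Commute (if a = 1 then 1 else z) _
    split_ifs
    · exact Commute.one_left _
    · exact hzc _ (φ.symm b).2
  have hfz : f (Multiplicative.ofAdd 1, 1) = z := by
    show (if Multiplicative.ofAdd (1 : ZMod 2) = 1 then (1 : P) else z) * dh 1 = z
    rw [if_neg (by decide), map_one, mul_one]
  have hfD : D ≤ f.range := fun y hy => ⟨(1, φ ⟨y, hy⟩), by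
    show zh 1 * dh _ = y
    rw [map_one, one_mul]
    show ((φ.symm (φ ⟨y, hy⟩) : D) : P) = y
    rw [MulEquiv.symm_apply_apply]⟩
  have hsurj : Function.Surjective f := by
    refine MonoidHom.range_eq_top.1 (Subgroup.eq_top_of_card_eq _ ?_)
    have h1 : Nat.card f.range ∣ 16 := h16 ▸ Subgroup.card_subgroup_dvd_card f.range
    have h2 : 8 ∣ Nat.card f.range := hD8 ▸ card_dvd_of_le hfD
    have h3 : Nat.card f.range ≠ 8 := fun h => hzD
      ((eq_of_le_of_card_ge hfD (le_of_eq (h.trans hD8.symm))).ge ⟨_, hfz⟩)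
    obtain ⟨k, hk⟩ := h2
    have h4 := Nat.le_of_dvd (by norm_num) h1
    have h5 : 0 < Nat.card f.range := Nat.card_pos
    rw [h16]
    omega
  have hbij : Function.Bijective f := (Nat.bijective_iff_surjective_and_card f).2 ⟨hsurj, by
    rw [h16, Nat.card_prod, DihedralGroup.nat_card]; simp⟩
  exact ⟨(MulEquiv.ofBijective f hbij).symm⟩

end CfsgLib.Char.SmallRamified
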