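import Cfsg.Agent.S0516
import Cfsg.Agent.S2911
import Cfsg.Agent.Lib.Char.SmallRamified.TwoDihedral
import Cfsg.Agent.Lib.Invol.TransferPower
import Cfsg.Agent.Lib.Fusion.PSUThree.Two
import Cfsg.Agent.Lib.Goldschmidt.Consumers.PrimeToThree

/-!
# Simple groups with a non-abelian Sylow `2`-subgroup of order sixteen
-/

set_option autoImplicit false
set_option linter.style.haveILetI false
set_option linter.unusedSectionVars false

namespace CfsgLib.Char.SmallRamified

open Subgroup

universe u

theorem card_psu_three_four {F : Type} [Field F] [Fintype F] (hF : Fintype.card F = 16) :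
    Nat.card (Cfsg.PSU 3 F 4) = 62400 := by
  haveI : Fact (Nat.Prime 2) := ⟨Nat.prime_two⟩
  have hF' : Fintype.card F = 4 ^ 2 := hF.trans (by norm_num)
  obtain ⟨C⟩ := CfsgLib.SU.exists_ctx (F := F) (p := 2) (f := 2) (q := 4) (by norm_num) (by norm_num) hF'
  have h := CfsgLib.PSUThreeTwo.card_PSU_three C hF'
  rw [CfsgLib.Classical.card_gu_formula C hF' 2] at h
  norm_num [Finset.prod_range_succ, Nat.not_even_one] at h
  exact h

theorem simple_no_hom {S : Type u} [Group S] [IsSimpleGroup S] (hna : ¬ IsMulCommutative S) {A : Type*} [CommGroup A]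
    (f : S →* A) (g : S) : f g = 1 := by
  rcases (inferInstance : IsSimpleGroup S).eq_bot_or_eq_top_of_normal f.ker inferInstance with h | h
  · exact absurd (isMulCommutative_iff.2 fun a b => (MonoidHom.ker_eq_bot_iff f).1 h (by
      rw [map_mul, map_mul, mul_comm])) hna
  · exact MonoidHom.mem_ker.1 (h ▸ mem_top g)

/-- A Sylow `2`-subgroup of order sixteen with an elementary abelian subgroup of index two. -/
theorem no_elementary {S : Type u} [Group S] [Finite S] [IsSimpleGroup S] (hna : ¬ IsMulCommutative S)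
    (T : Sylow 2 S) (h16 : Nat.card (T : Subgroup S) = 16) (hnc : ¬ IsMulCommutative (T : Subgroup S))
    (E : Subgroup (T : Subgroup S)) (hsq : ∀ e ∈ E, e * e = 1) (h8 : Nat.card E = 8) : False := by
  classical
  haveI : Fact (Nat.Prime 2) := ⟨Nat.prime_two⟩
  have hidx : E.index = 2 := by
    have := E.card_mul_index
    rw [h8, h16] at this
    omega
  haveI : E.Normal := Subgroup.normal_of_index_eq_two hidx
  by_cases hout : ∃ t : (T : Subgroup S), t ∉ E ∧ t * t = 1
  · obtain ⟨t, htE, ht⟩ := hout
    obtain ⟨φ⟩ := iso_two_dihedral h16 hnc hsq h8 htE ht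
    obtain ⟨H, hH⟩ := Cfsg.Agent.S2911.result T ⟨φ⟩
    haveI : H.Normal := Subgroup.normal_of_index_eq_two hH
    rcases (inferInstance : IsSimpleGroup S).eq_bot_or_eq_top_of_normal H inferInstance with h | h
    · rw [h, index_bot] at hH
      have := card_le_card_group (T : Subgroup S)
      omega
    · rw [h, index_top] at hH; omega
  · -- every element outside has order four
    push Not at hout
    let ψ : (T : Subgroup S) →* ℤˣ := MonoidHom.mk' (fun y => if y ∈ E then 1 else -1) fun a b => by
      by_cases ha : a ∈ E <;> by_cases hb : b ∈ E <;>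
        simp [Subgroup.mul_mem_iff_of_index_two hidx, ha, hb]
    obtain ⟨t, htE⟩ : ∃ t : (T : Subgroup S), t ∉ E := by
      by_contra h
      push Not at h
      rw [(Subgroup.eq_top_iff' E).2 h, index_top] at hidx
      omega
    have ht4 : ∀ y : (T : Subgroup S), y ∉ E → orderOf y = 4 := by
      intro y hy
      have h : orderOf y = 2 ^ (1 + 1) := by
        refine orderOf_eq_prime_pow (fun h => hout y hy ?_) ?_
        · rwa [pow_one, pow_two] at h
        · rw [show (2 : ℕ) ^ (1 + 1) = 2 * 2 from rfl, pow_mul, pow_two, pow_two]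
          exact hsq _ (Subgroup.mul_self_mem_of_index_two hidx y)
      exact h
    have hkey : MonoidHom.transfer ψ (t : S) = ψ ⟨t, t.2⟩ ^ (T : Subgroup S).index := by
      refine CfsgLib.Invol.transfer_eq_pow_index ψ (t : S) t.2 fun k g₀ hk => ?_
      have hψt : ψ ⟨(t : S), t.2⟩ = -1 := if_neg htE
      rw [hψt]
      set y : (T : Subgroup S) := ⟨g₀⁻¹ * (t : S) ^ k * g₀, hk⟩
      have hy : orderOf y = orderOf ((t : S) ^ k) := by
        rw [orderOf_mk]
        simpa using MulEquiv.orderOf_eq (MulAut.conj g₀⁻¹) ((t : S) ^ k)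
      have ht : orderOf (t : S) = 4 := (Subgroup.orderOf_coe t).trans (ht4 t htE)
      rcases Nat.even_or_odd k with hev | hod
      · rw [hev.neg_one_pow]
        refine if_pos (by_contra fun hyE => ?_)
        have h2 : orderOf y ∣ 2 := by
          rw [hy]
          refine orderOf_dvd_of_pow_eq_one ?_
          rw [← pow_mul, ← orderOf_dvd_iff_pow_eq_one, ht]
          obtain ⟨l, rfl⟩ := hev
          exact ⟨l, by ring⟩
        rw [ht4 y hyE] at h2
        norm_num at h2
      · rw [hod.neg_one_pow]
        refine if_neg fun hyE => ?_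
        have h4 : orderOf ((t : S) ^ k) = 4 := by
          rw [Nat.Coprime.orderOf_pow, ht]
          rw [ht, show (4 : ℕ) = 2 ^ 2 from rfl]
          exact (Nat.coprime_two_left.2 hod).pow_left 2
        have h2 : orderOf y ∣ 2 := orderOf_dvd_of_pow_eq_one (by rw [pow_two]; exact hsq y hyE)
        rw [hy, h4] at h2
        norm_num at h2
    rw [simple_no_hom hna, show ψ ⟨(t : S), t.2⟩ = -1 from if_neg htE,
      (Nat.not_even_iff_odd.1 fun he => T.not_dvd_index he.two_dvd).neg_one_pow] at hkey
    exact absurd hkey (by decide)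

/-- A self-centralising element of a Sylow `2`-subgroup of order sixteen. -/
theorem sylow_sixteen {S : Type u} [Group S] [Finite S] [IsSimpleGroup S] (hna : ¬ IsMulCommutative S)
    (T : Sylow 2 S) (h16 : Nat.card (T : Subgroup S) = 16) (hnc : ¬ IsMulCommutative (T : Subgroup S)) :
    ∃ x : (T : Subgroup S), ∀ y, y * x = x * y → y ∈ zpowers x := by
  classical
  haveI : Fact (Nat.Prime 2) := ⟨Nat.prime_two⟩
  have h2 : Cfsg.PRankLE 2 2 S := by
    intro A hA hA2
    by_contra hlt
    push Not at hlt
    have hp : IsPGroup 2 A := fun a => ⟨1, Subtype.ext (by rw [pow_one]; exact hA2 a a.2)⟩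
    obtain ⟨U, hU⟩ := hp.exists_le_sylow
    let f : A →* (T : Subgroup S) := (Sylow.equiv U T).toMonoidHom.comp (Subgroup.inclusion hU)
    have hinj : Function.Injective f := (Sylow.equiv U T).injective.comp (Subgroup.inclusion_injective hU)
    have hc : Nat.card f.range = Nat.card A := (Nat.card_congr (Equiv.ofInjective f hinj)).symm
    have hd : Nat.card A ∣ 16 := hc ▸ h16 ▸ Subgroup.card_subgroup_dvd_card f.range
    have hsq : ∀ y ∈ f.range, y * y = 1 := by
      rintro _ ⟨a, rfl⟩
      rw [← map_mul, show a * a = 1 from Subtype.ext (by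
        show (a : S) * a = 1
        rw [← pow_two]; exact hA2 a a.2), map_one]
    rcases (Nat.dvd_prime_pow Nat.prime_two).1 (show Nat.card A ∣ 2 ^ 4 from hd) with ⟨k, hk, hkA⟩
    rw [hkA] at hlt hc
    have : 2 < k := (Nat.pow_lt_pow_iff_right (by norm_num : 1 < 2)).1 hlt
    interval_cases k
    · exact no_elementary hna T h16 hnc f.range hsq hc
    · refine hnc (isMulCommutative_iff.2 fun a b => ?_)
      have htop : f.range = ⊤ := Subgroup.eq_top_of_card_eq _ (by rw [hc, h16]; rfl)
      obtain ⟨a', rfl⟩ := (htop ▸ mem_top a : a ∈ f.range)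
      obtain ⟨b', rfl⟩ := (htop ▸ mem_top b : b ∈ f.range)
      rw [← map_mul, ← map_mul, isMulCommutative_iff.1 hA]
  let F := GaloisField 2 4
  letI : Fintype F := Fintype.ofFinite F
  have hF : Fintype.card F = 16 := by rw [← Nat.card_eq_fintype_card, GaloisField.card 2 4 (by norm_num)]; norm_num
  obtain ⟨R⟩ : Nonempty (Sylow 2 (Cfsg.PSU 3 F 4)) := inferInstance
  rcases Cfsg.Agent.S0516.result hna h2 T hF R with ⟨n, -, ⟨e⟩⟩ | hqd | hw | ⟨⟨e⟩⟩
  · have hn : n = 8 := by
      have h := Nat.card_congr e.toEquiv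
      rw [h16, DihedralGroup.nat_card] at h
      omega
    subst hn
    refine ⟨e.symm (DihedralGroup.r 1), fun y hy => ?_⟩
    have key : ∀ z : DihedralGroup 8, z * DihedralGroup.r 1 = DihedralGroup.r 1 * z →
        z ∈ zpowers (DihedralGroup.r 1) := by
      intro z hz
      cases z with
      | r i => exact ⟨(i.cast : ℤ), by simp⟩
      | sr i =>
        exfalso
        simp only [DihedralGroup.sr_mul_r, DihedralGroup.r_mul_sr, DihedralGroup.sr.injEq] at hz
        revert hz
        revert i
        decide
    obtain ⟨i, hi⟩ := mem_zpowers_iff.1 (key (e y) (by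
      have := congrArg e hy
      simpa using this))
    exact ⟨i, e.injective (by simp only [map_zpow, MulEquiv.apply_symm_apply]; exact hi)⟩
  · obtain ⟨n, -, hcard, x, y, hx, -, hyx⟩ := hqd
    rw [h16, show 16 = 2 ^ 4 from rfl] at hcard
    have hn : n = 3 := by have := Nat.pow_right_injective (le_refl 2) hcard; omega
    subst hn
    refine ⟨x, fun z hz => ?_⟩
    by_contra hzx
    have hidx : (zpowers x).index = 2 := by
      have := (zpowers x).card_mul_index
      rw [Nat.card_zpowers, hx, h16] at this
      omega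
    have hy : y ∈ zpowers x ∨ z * y ∈ zpowers x := by
      by_cases h : y ∈ zpowers x
      · exact Or.inl h
      · exact Or.inr ((Subgroup.mul_mem_iff_of_index_two hidx).2 (iff_of_false hzx h))
    have hyc : Commute y x := by
      rcases hy with h | h
      · obtain ⟨i, rfl⟩ := mem_zpowers_iff.1 h
        exact Commute.zpow_self x i
      · obtain ⟨i, hi⟩ := mem_zpowers_iff.1 h
        rw [show y = z⁻¹ * x ^ i by rw [hi]; group]
        exact (Commute.inv_left hz).mul_left (Commute.zpow_self x i)
    rw [hyc.eq, mul_inv_cancel_right] at hyx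
    have h1 : x ^ 1 = x ^ (2 ^ (3 - 1) - 1) := by rw [pow_one]; exact hyx
    rw [pow_eq_pow_iff_modEq, hx] at h1
    norm_num [Nat.ModEq] at h1
  · obtain ⟨n, hn, hcard, -⟩ := hw
    rw [h16, show 16 = 2 ^ 4 from rfl] at hcard
    have := Nat.pow_right_injective (le_refl 2) hcard
    omega
  · exfalso
    have h := Nat.card_congr e.toEquiv
    rw [h16, R.card_eq_multiplicity, card_psu_three_four hF, show 16 = 2 ^ 4 from rfl] at h
    have h4 := Nat.pow_right_injective (le_refl 2) h
    have h6 : 2 ^ 6 ∣ 62400 := by norm_num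
    rw [Nat.prime_two.pow_dvd_iff_le_factorization (by norm_num), ← h4] at h6
    omega

end CfsgLib.Char.SmallRamified
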