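import Cfsg.Agent.Lib.Char.FullyRamifiedBasic
import Cfsg.Agent.Lib.Char.FullyRamifiedSection

/-!
# Cyclic self-centralising subgroups of Sylow subgroups of fully ramified sections
-/

set_option autoImplicit false
set_option linter.style.haveILetI false
set_option linter.unusedSectionVars false

namespace CfsgLib.Char.SmallRamified

open Cfsg CfsgLib CfsgLib.Char CfsgLib.Char.FullyRam Subgroup

universe u

variable {A : Type u} [Group A] [Fintype A] {Z : Subgroup A} [hZ : Z.Normal] {θ : IrrCharacter Z}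
  {χ : IrrCharacter A}

/-- No non-trivial Sylow subgroup of the section has a self-centralising element. -/
theorem sylow_not_selfCentralizing (h : FR Z θ χ) {p : ℕ} [Fact p.Prime] (P : Sylow p (A ⧸ Z))
    (hP : (P : Subgroup (A ⧸ Z)) ≠ ⊥) (x : (P : Subgroup (A ⧸ Z)))
    (hx : ∀ y, y * x = x * y → y ∈ zpowers x) : False := by
  classical
  set T := (P : Subgroup (A ⧸ Z)).comap (QuotientGroup.mk' Z) with hTdef
  have hZT : Z ≤ T := fun z hz => by
    show (z : A ⧸ Z) ∈ (P : Subgroup (A ⧸ Z))
    rw [(QuotientGroup.eq_one_iff z).2 hz]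
    exact (P : Subgroup (A ⧸ Z)).one_mem
  have hTi : T.index = (P : Subgroup (A ⧸ Z)).index :=
    Subgroup.index_comap_of_surjective _ (QuotientGroup.mk'_surjective Z)
  have hTp : ¬ p ∣ T.index := hTi ▸ P.not_dvd_index
  let q : T →* (P : Subgroup (A ⧸ Z)) := ((QuotientGroup.mk' Z).comp T.subtype).codRestrict _ fun t => t.2
  have hq : Function.Surjective q := fun y => by
    obtain ⟨a, ha⟩ := QuotientGroup.mk'_surjective Z (y : A ⧸ Z)
    exact ⟨⟨a, show QuotientGroup.mk' Z a ∈ (P : Subgroup (A ⧸ Z)) by rw [ha]; exact y.2⟩, Subtype.ext ha⟩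
  have hker : q.ker = Z.subgroupOf T := by
    ext t
    rw [MonoidHom.mem_ker, mem_subgroupOf, Subtype.ext_iff]
    exact QuotientGroup.eq_one_iff (t : A)
  obtain ⟨b, hb⟩ := IsPGroup.iff_card.1 P.isPGroup'
  have hTb : Z.relIndex T = p ^ b := by
    rw [relIndex, ← hker, Subgroup.index_ker, MonoidHom.range_eq_top.2 hq, card_top, hb]
  haveI : (Z.subgroupOf T).Normal := inferInstance
  obtain ⟨ψ, hψ⟩ := exists_sylow_FR h hZT hTb hTp
  letI : Fintype T := Fintype.ofFinite T
  let e : T ⧸ Z.subgroupOf T ≃* (P : Subgroup (A ⧸ Z)) :=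
    (QuotientGroup.quotientMulEquivOfEq hker.symm).trans (QuotientGroup.quotientKerEquivOfSurjective q hq)
  refine cyclic_not_selfCentralizing hψ ?_ (zpowers (e.symm x)) inferInstance ?_
  · intro htop
    refine hP (Subgroup.card_eq_one.1 ?_)
    rw [← Nat.card_congr e.toEquiv, ← Subgroup.index_eq_card, htop, index_top]
  · refine le_antisymm (fun y hy => ?_) fun y hy => mem_centralizer_iff.2 fun w hw => ?_
    · have h1 : e y * x = x * e y := by
        have := congrArg e (mem_centralizer_iff.1 hy _ (mem_zpowers (e.symm x)))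
        simpa using this.symm
      obtain ⟨i, hi⟩ := mem_zpowers_iff.1 (hx _ h1)
      exact ⟨i, e.injective (by simp only [map_zpow, MulEquiv.apply_symm_apply]; exact hi)⟩
    · obtain ⟨i, rfl⟩ := mem_zpowers_iff.1 hy
      obtain ⟨j, rfl⟩ := mem_zpowers_iff.1 hw
      exact (Commute.zpow_zpow_self _ j i).eq

end CfsgLib.Char.SmallRamified
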