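import Cfsg.Agent.Lib.Char.SmallRamified.Extension
import Cfsg.Agent.Lib.Char.SmallRamified.Local
import Cfsg.Agent.Lib.Char.SmallRamified.CaseB
import Cfsg.Agent.Lib.Char.SmallRamified.Primes
import Cfsg.Agent.Lib.Char.SmallRamified.Sixteen
import Cfsg.Agent.Lib.Char.SmallRamified.SylowTwo
import Cfsg.Agent.Lib.Coprime.Component

/-!
# Fully ramified sections with small non-abelian Sylow subgroups are soluble
-/

set_option autoImplicit false
set_option linter.style.haveILetI false
set_option linter.unusedSectionVars false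

namespace CfsgLib.Char.SmallRamified

open Subgroup
open CfsgLib.Coprime (IsSylowIn)

universe u

variable {Q : Type u} [Group Q] [Finite Q]

/-- The largest soluble normal subgroup. -/
theorem exists_radical : ∃ K : Subgroup Q, ∃ _ : K.Normal, Group.IsSolvable K ∧
    ∀ M : Subgroup Q, M.Normal → Group.IsSolvable M → K ≤ M → M = K := by
  obtain ⟨K, hK⟩ := exists_maximal_of_wellFoundedGT (fun M : Subgroup Q => M.Normal ∧ Group.IsSolvable M)
    ⟨⊥, inferInstance, inferInstance⟩
  exact ⟨K, hK.1.1, hK.1.2, fun M hM hs hle => le_antisymm (hK.2 ⟨hM, hs⟩ hle) hle⟩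

/-- In a non-soluble group a simple non-abelian component lies over the soluble radical. -/
theorem exists_factor (hns : ¬ Group.IsSolvable Q) :
    ∃ (K : Subgroup Q) (_ : K.Normal) (L : Subgroup (Q ⧸ K)), IsSimpleGroup L ∧ ¬ IsMulCommutative L ∧
      Cfsg.IsComponent L := by
  classical
  obtain ⟨K, hKn, hKs, hKmax⟩ := exists_radical (Q := Q)
  haveI := hKn
  haveI := hKs
  have hrad : ∀ M : Subgroup (Q ⧸ K), M.Normal → Group.IsSolvable M → M = ⊥ := by
    intro M hM hMs
    haveI := hMs
    set U := M.comap (QuotientGroup.mk' K)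
    have hKU : K ≤ U := fun k hk => by
      show QuotientGroup.mk' K k ∈ M
      rw [QuotientGroup.mk'_apply, (QuotientGroup.eq_one_iff k).2 hk]
      exact M.one_mem
    let q : U →* M := ((QuotientGroup.mk' K).comp U.subtype).codRestrict M fun u => u.2
    have hU : Group.IsSolvable U := Group.isSolvable_of_ker_le_range (Subgroup.inclusion hKU) q (fun u hu =>
      ⟨⟨(u : Q), (QuotientGroup.eq_one_iff (u : Q)).1 (congrArg Subtype.val (MonoidHom.mem_ker.1 hu))⟩, rfl⟩)
    have hUK := hKmax U (hM.comap _) hU hKU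
    refine le_bot_iff.1 fun y hy => ?_
    obtain ⟨a, rfl⟩ := QuotientGroup.mk'_surjective K y
    exact mem_bot.2 ((QuotientGroup.eq_one_iff a).2 (hUK ▸ (mem_comap.2 hy : a ∈ U)))
  have hF : Cfsg.fittingSubgroup (Q ⧸ K) = ⊥ :=
    hrad _ CfsgLib.Coprime.fitting_normal (CfsgLib.Coprime.isSolvable_of_isNilpotent CfsgLib.Coprime.fitting_isNilpotent)
  have hlay : Cfsg.layer (Q ⧸ K) ≠ ⊥ := by
    intro h0
    have h := CfsgLib.Coprime.centralizer_fitting_le_of_layer_eq_bot h0
    rw [hF, le_bot_iff] at h
    refine hns ?_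
    haveI : Subsingleton (Q ⧸ K) := ⟨fun a b => by
      have ha : ∀ c : Q ⧸ K, c = 1 := fun c => mem_bot.1 (h.le (mem_centralizer_iff.2 fun z hz => by
        rw [SetLike.mem_coe, mem_bot] at hz
        rw [hz, one_mul, mul_one]))
      rw [ha a, ha b]⟩
    have hKtop : K = ⊤ := eq_top_iff.2 fun a _ => (QuotientGroup.eq_one_iff a).1 (Subsingleton.elim _ _)
    exact Group.isSolvable_of_surjective (f := K.subtype) fun a => ⟨⟨a, hKtop ▸ mem_top a⟩, rfl⟩
  obtain ⟨L, hL⟩ : ∃ L : Subgroup (Q ⧸ K), Cfsg.IsComponent L := by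
    by_contra hno
    push Not at hno
    exact hlay (le_bot_iff.1 (sSup_le fun M hM => absurd hM (hno M)))
  have hc : center L = ⊥ := by
    have hsub : ((center L).map L.subtype).IsSubnormal := (inferInstance : (center L).Normal).isSubnormal.trans' hL.1
    have hnil : Group.IsNilpotent ((center L).map L.subtype : Subgroup (Q ⧸ K)) := by
      haveI : Group.IsNilpotent (center L) := ⟨1, by
        rw [Subgroup.upperCentralSeries_one, eq_top_iff]
        exact fun a _ => mem_center_iff.2 fun b => Subtype.ext (mem_center_iff.1 a.2 b.1)⟩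
      exact Group.nilpotent_of_mulEquiv ((center L).equivMapOfInjective _ L.subtype_injective)
    have := CfsgLib.Coprime.le_fitting_of_isSubnormal hsub hnil
    rw [hF, le_bot_iff, map_eq_bot_iff_of_injective _ L.subtype_injective] at this
    exact this
  have hsimp : IsSimpleGroup L := by
    haveI : IsSimpleGroup (L ⧸ center L) := hL.2.2
    haveI : Nontrivial L := CfsgLib.Coprime.nontrivial_of_isQuasisimple hL.2
    exact IsSimpleGroup.isSimpleGroup_of_surjective
      ((QuotientGroup.quotientMulEquivOfEq hc).trans (QuotientGroup.quotientBot (G := L))).toMonoidHom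
      (MulEquiv.surjective _)
  refine ⟨K, hKn, L, hsimp, fun hcomm => ?_, hL⟩
  exact CfsgLib.Coprime.not_isSolvable_of_isQuasisimple hL.2
    (Group.isSolvable_of_comm fun a b => isMulCommutative_iff.1 hcomm a b)

/-- The preimage of a component is a factor stable under centralisers. -/
theorem factor_of_component {K : Subgroup Q} [K.Normal] {L : Subgroup (Q ⧸ K)} [IsSimpleGroup L]
    (hna : ¬ IsMulCommutative L) (hL : Cfsg.IsComponent L) {r : ℕ} [Fact r.Prime]
    (hcyc : ∀ T : Sylow r L, IsCyclic (T : Subgroup L)) (hrd : r ∣ Nat.card L) :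
    Factor r K (L.comap (QuotientGroup.mk' K)) ∧ K.relIndex (L.comap (QuotientGroup.mk' K)) = Nat.card L := by
  classical
  set π := QuotientGroup.mk' K with hπ
  set U := L.comap π with hU
  have hKU : K ≤ U := fun k hk => by
    show π k ∈ L
    rw [hπ, QuotientGroup.mk'_apply, (QuotientGroup.eq_one_iff k).2 hk]
    exact L.one_mem
  have hπK : ∀ a : Q, π a = 1 ↔ a ∈ K := fun a => QuotientGroup.eq_one_iff a
  let q : U →* L := (π.comp U.subtype).codRestrict L fun u => u.2
  have hq : Function.Surjective q := fun y => by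
    obtain ⟨a, ha⟩ := QuotientGroup.mk'_surjective K (y : Q ⧸ K)
    exact ⟨⟨a, show π a ∈ L by rw [hπ, ha]; exact y.2⟩, Subtype.ext ha⟩
  have hker : q.ker = K.subgroupOf U := by
    ext u
    rw [MonoidHom.mem_ker, mem_subgroupOf, Subtype.ext_iff]
    exact QuotientGroup.eq_one_iff (u : Q)
  have hidx : K.relIndex U = Nat.card L := by
    rw [relIndex, ← hker, Subgroup.index_ker, MonoidHom.range_eq_top.2 hq, card_top]
  refine ⟨⟨inferInstance, hKU, ?_, ?_, ?_, hidx ▸ hrd, ?_⟩, hidx⟩
  · intro x hx hxK y hyx w hw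
    set yb := π y with hyb
    set M := L.map (MulAut.conj yb).toMonoidHom with hM
    have hMc : Cfsg.IsComponent M := CfsgLib.Coprime.isComponent_map_equiv (MulAut.conj yb) hL
    have hxM : π x ∈ M := ⟨π x, hx, by
      show yb * π x * yb⁻¹ = π x
      rw [hyb, ← map_mul, ← map_inv, ← map_mul, hyx, mul_inv_cancel_right]⟩
    have hML : M = L := by
      by_contra hne
      have hcom := CfsgLib.Coprime.components_commute hMc hL hne
      have hz : (⟨π x, hx⟩ : L) ∈ center L := mem_center_iff.2 fun l => Subtype.ext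
        ((mem_centralizer_iff.1 (commutator_eq_bot_iff_le_centralizer.1 hcom hxM) l l.2))
      have hc : center L = ⊥ := ((inferInstance : IsSimpleGroup L).eq_bot_or_eq_top_of_normal _ inferInstance).resolve_right
        fun h => hna (isMulCommutative_iff.2 fun a b => (mem_center_iff.1 (h ▸ mem_top b) a))
      rw [hc, mem_bot] at hz
      exact hxK ((hπK x).1 (congrArg Subtype.val hz))
    show π (y * w * y⁻¹) ∈ L
    rw [← hML]
    exact ⟨π w, hw, by rw [map_mul, map_mul, map_inv]; rfl⟩
  · intro M hKM hMU hMn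
    haveI : (M.subgroupOf U).Normal := Subgroup.normal_subgroupOf_of_le_normalizer hMn
    have hn : ((M.subgroupOf U).map q).Normal := (inferInstance : (M.subgroupOf U).Normal).map q hq
    rcases (inferInstance : IsSimpleGroup L).eq_bot_or_eq_top_of_normal _ hn with h | h
    · left
      refine le_antisymm (fun m hm => ?_) hKM
      have h1 : q ⟨m, hMU hm⟩ ∈ (⊥ : Subgroup L) := h ▸ mem_map_of_mem q (mem_subgroupOf.2 hm)
      exact (hπK m).1 (congrArg Subtype.val (mem_bot.1 h1))
    · right
      refine le_antisymm hMU fun u hu => ?_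
      obtain ⟨⟨m, hm'⟩, hm, hmu⟩ := (h ▸ mem_top (q ⟨u, hu⟩) : q ⟨u, hu⟩ ∈ (M.subgroupOf U).map q)
      have h1 : π (m⁻¹ * u) = 1 := by
        rw [map_mul, map_inv, show π m = π u from congrArg Subtype.val hmu, inv_mul_cancel]
      rw [show u = m * (m⁻¹ * u) by group]
      exact M.mul_mem hm (hKM ((hπK _).1 h1))
  · intro T hTU hT
    obtain ⟨S, hS⟩ := ((hT.of_equiv (subgroupOfEquivOfLe hTU).symm).map q).exists_le_sylow
    haveI := hcyc S
    haveI : IsCyclic ((T.subgroupOf U).map q) :=
      isCyclic_of_injective (Subgroup.inclusion hS) (Subgroup.inclusion_injective hS)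
    obtain ⟨⟨g, hg⟩, hgen⟩ := IsCyclic.exists_generator (α := ((T.subgroupOf U).map q))
    obtain ⟨⟨c, hcU⟩, hc, hcg⟩ := hg
    refine ⟨c, hc, fun p hp => ?_⟩
    obtain ⟨i, hi⟩ := mem_zpowers_iff.1 (hgen ⟨q ⟨p, hTU hp⟩, mem_map_of_mem q (mem_subgroupOf.2 hp)⟩)
    refine ⟨i, (hπK _).1 ?_⟩
    have h1 : (π c) ^ i = π p := by
      have h2 : g ^ i = q ⟨p, hTU hp⟩ := congrArg Subtype.val hi
      rw [← hcg] at h2
      exact congrArg Subtype.val h2
    rw [map_mul, map_inv, map_zpow, h1, inv_mul_cancel]
  · intro j hj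
    rw [hidx] at hj
    exact hna (isMulCommutative_of_simple_pgroup (IsPGroup.of_card hj))
where
  isMulCommutative_of_simple_pgroup {S : Type u} [Group S] [Finite S] [IsSimpleGroup S] {r : ℕ} [Fact r.Prime]
      (h : IsPGroup r S) : IsMulCommutative S := by
    haveI := h.center_nontrivial
    rcases (inferInstance : IsSimpleGroup S).eq_bot_or_eq_top_of_normal (center S) inferInstance with hc | hc
    · exact absurd hc ((nontrivial_iff_ne_bot _).1 inferInstance)
    · exact isMulCommutative_iff.2 fun a b => mem_center_iff.1 (hc ▸ mem_top b) a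

end CfsgLib.Char.SmallRamified
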